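import Cfsg.Agent.H335.RT.CharTwo
import Cfsg.Agent.ClassicalGeometry.SLTwoFour
import Cfsg.Agent.S0252
import Cfsg.Agent.S0253
import Cfsg.Agent.S0254
import Cfsg.Agent.S0255
import Cfsg.Agent.S0811
import Cfsg.Agent.S0812

/-!
# `PSL₂(q)`, `q` odd (helper281, for S3126)

`row_psl_two`
-/

set_option autoImplicit false

namespace Cfsg.Agent.H281.RT

open Cfsg.Agent.H335

/-- all involutions in `D` and a dihedral subgroup of order `2 n`, `n` even, `n ∤ 4` -/
theorem false_of_dihedral {G : Type*} [Group G] [Finite G] {D : Set G} (h : RT D)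
    (hall : ∀ x : G, orderOf x = 2 → x ∈ D) {H : Subgroup G} {n : ℕ} (e : H ≃* DihedralGroup n) (hn : Even n)
    (h4 : ¬ n ∣ 4) : False := by
  have hn0 : n ≠ 0 := by
    rintro rfl
    have : Finite (DihedralGroup 0) := Finite.of_equiv _ e.toEquiv
    exact not_finite (DihedralGroup 0)
  have : NeZero n := ⟨hn0⟩
  have key : ∀ i : ZMod n, ((e.symm (DihedralGroup.sr i) : H) : G) ∈ D := by
    intro i
    apply hall
    rw [Subgroup.orderOf_coe, MulEquiv.orderOf_eq, DihedralGroup.orderOf_sr]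
  have hprod : ((e.symm (DihedralGroup.sr 0) : H) : G) * ((e.symm (DihedralGroup.sr 1) : H) : G) =
      ((e.symm (DihedralGroup.r 1) : H) : G) := by
    rw [← Subgroup.coe_mul, ← map_mul, DihedralGroup.sr_mul_sr, sub_zero]
  have ho : orderOf ((e.symm (DihedralGroup.r 1) : H) : G) = n := by
    rw [Subgroup.orderOf_coe, MulEquiv.orderOf_eq, DihedralGroup.orderOf_r_one]
  rcases h.order (key 0) (key 1) with h1 | h1
  · rw [hprod, ho] at h1
    exact (Nat.not_even_iff_odd.2 h1) hn
  · rw [hprod] at h1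
    have h2 := orderOf_dvd_of_pow_eq_one h1
    rw [ho] at h2
    exact h4 h2

theorem noRT_psl_two {F : Type} [Field F] [Fintype F] (hodd : Odd (Fintype.card F)) (h3 : Fintype.card F ≠ 3)
    (h5 : Fintype.card F ≠ 5) (h7 : Fintype.card F ≠ 7) (h9 : Fintype.card F ≠ 9) :
    NoRT (Matrix.ProjectiveSpecialLinearGroup (Fin 2) F) := by
  intro D h hne
  obtain ⟨x₀, hx₀⟩ := hne
  have hall : ∀ x : Matrix.ProjectiveSpecialLinearGroup (Fin 2) F, orderOf x = 2 → x ∈ D := by
    intro x hx
    exact h.of_isConj hx₀ (ClassicalGeometry.SLTwoFour.psl_isConj hodd x₀ x (h.inv _ hx₀) hx)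
  have h1 : 1 < Fintype.card F := Fintype.one_lt_card
  obtain ⟨k, hk⟩ := hodd
  have hg : Nat.gcd 2 (Fintype.card F - 1) = 2 := by
    rw [hk]
    have : 2 * k + 1 - 1 = 2 * k := by omega
    rw [this, Nat.gcd_mul_right_right]
  rcases Nat.even_or_odd k with hk2 | hk2
  · -- q = 1 mod 4
    obtain ⟨H, -, ⟨e⟩⟩ := S0812.result (F := F) rfl (by
      simp only [Finset.mem_insert, Finset.mem_singleton, not_or]
      obtain ⟨j, hj⟩ := hk2
      refine ⟨by omega, by omega, by omega, by omega, by omega, by omega⟩)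
    rw [hg] at e
    have e2 : (Fintype.card F - 1) / 2 = k := by omega
    rw [e2] at e
    refine false_of_dihedral h hall e hk2 ?_
    intro h4
    have h6 := Nat.le_of_dvd (by norm_num) h4
    interval_cases k <;> simp_all
  · obtain ⟨H, -, ⟨e⟩⟩ := S0811.result (F := F) rfl (by
      simp only [Finset.mem_insert, Finset.mem_singleton, not_or]
      refine ⟨by omega, by omega, by omega⟩)
    rw [hg] at e
    have e2 : (Fintype.card F + 1) / 2 = k + 1 := by omega
    rw [e2] at e
    refine false_of_dihedral h hall e hk2.add_one ?_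
    intro h4
    have h6 := Nat.le_of_dvd (by norm_num) h4
    have h7' : k ≤ 3 := by omega
    interval_cases k <;> simp_all

/-- **`PSL₂(q)`, `q` odd** -/
theorem row_psl_two {K : Type*} [Group K] {F : Type} [Field F] [Fintype F] (hodd : Odd (Fintype.card F))
    (h3 : Fintype.card F ≠ 3) (e : K ≃* Matrix.ProjectiveSpecialLinearGroup (Fin 2) F) : NoRT K ∨ Concl K := by
  by_cases h5 : Fintype.card F = 5
  · right; left
    have : Fact (Nat.Prime 2) := ⟨Nat.prime_two⟩
    have : Fintype (GaloisField 2 2) := Fintype.ofFinite _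
    have hc : Fintype.card (GaloisField 2 2) = 4 := by
      rw [← Nat.card_eq_fintype_card, GaloisField.card 2 2 (by norm_num)]
      norm_num
    obtain ⟨e1⟩ := S0253.result h5
    obtain ⟨e2⟩ := S0252.result hc
    exact ⟨GaloisField 2 2, inferInstance, inferInstance, ringChar.eq_iff.2 inferInstance,
      Or.inl ⟨e.trans (e1.trans e2.symm)⟩⟩
  by_cases h7 : Fintype.card F = 7
  · right; left
    have : Fact (Nat.Prime 2) := ⟨Nat.prime_two⟩
    obtain ⟨e1⟩ := S0255.result (K := ZMod 2) h7 (ZMod.card 2)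
    exact ⟨ZMod 2, inferInstance, inferInstance, ringChar.eq_iff.2 inferInstance, Or.inr ⟨e.trans e1⟩⟩
  by_cases h9 : Fintype.card F = 9
  · obtain ⟨e1⟩ := S0254.result h9
    exact Or.inr (Or.inr (Or.inr (Or.inr (Or.inr (Or.inr (Or.inl ⟨e.trans e1⟩))))))
  exact Or.inl ((noRT_psl_two hodd h3 h5 h7 h9).congr e.symm)

end Cfsg.Agent.H281.RT
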