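import Cfsg.Agent.H335.RT.Lift
import Cfsg.Agent.H57.TTRee
import Cfsg.Agent.S0812

/-!
# The Ree groups `²G₂(q)` (helper281, for S3126)

`noRT_ree`
-/

set_option autoImplicit false

namespace Cfsg.Agent.H281.RT

open Cfsg.Agent.H335 Subgroup

theorem noRT_ree {G : Type*} [Group G] (hG : Cfsg.Lie.IsoRee G) : NoRT G := by
  obtain ⟨K, i1, i2, m, hm, hK, ⟨e0⟩⟩ := hG
  refine NoRT.congr ?_ e0.symm
  intro D h hne
  have hfin := H57.TTRee.finite_ree hK
  obtain ⟨t, ht⟩ := hne
  obtain ⟨e⟩ := H57.TTRee.ree_cent hm hK t (h.inv t ht)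
  have hq : 27 ≤ Fintype.card K := by
    rw [hK]
    calc 27 = 3 ^ 3 := by norm_num
      _ ≤ _ := Nat.pow_le_pow_right (by norm_num) (by omega)
  have hodd : Odd (Fintype.card K) := by rw [hK]; exact Odd.pow (by decide)
  have hq4 : Fintype.card K % 4 = 3 := by
    rw [hK, pow_add, pow_mul]
    have h9 : 3 ^ 2 % 4 = 1 := by norm_num
    rw [Nat.mul_mod, Nat.pow_mod, h9, one_pow]
    norm_num
  obtain ⟨H, -, ⟨e1⟩⟩ := S0812.result (F := K) rfl (by
    simp only [Finset.mem_insert, Finset.mem_singleton, not_or]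
    refine ⟨by omega, by omega, by omega, by omega, by omega, by omega⟩)
  obtain ⟨j, hj⟩ := hodd
  have hg : Nat.gcd 2 (Fintype.card K - 1) = 2 := by
    have : Fintype.card K - 1 = 2 * j := by omega
    rw [this, Nat.gcd_mul_right_right]
  rw [hg] at e1
  have ej : (Fintype.card K - 1) / 2 = j := by omega
  rw [ej] at e1
  have hjo : Odd j := by
    rw [Nat.odd_iff]
    omega
  have : NeZero j := ⟨by omega⟩
  -- the embedding
  let f : H → ↥(Cfsg.Lie.twistedG2 K (3 ^ m)) := fun x => (e.symm ((x : Matrix.ProjectiveSpecialLinearGroup (Fin 2) K), 1)).1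
  have hfm : ∀ x y, f (x * y) = f x * f y := by
    intro x y
    change (e.symm _).1 = (e.symm _).1 * (e.symm _).1
    rw [← Subgroup.coe_mul, ← map_mul]
    congr 2
  have hfo : ∀ x, orderOf (f x) = orderOf x := by
    intro x
    change orderOf (e.symm _).1 = _
    rw [Subgroup.orderOf_coe, MulEquiv.orderOf_eq, Prod.orderOf_mk, orderOf_one, Nat.lcm_one_right, Subgroup.orderOf_coe]
  have hft : ∀ x, Commute (f x) t := fun x => mem_centralizer_singleton_iff.1 (e.symm _).2
  have key : ∀ i : ZMod j, f (e1.symm (DihedralGroup.sr i)) ∈ D := by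
    intro i
    have ho : orderOf (f (e1.symm (DihedralGroup.sr i))) = 2 := by
      rw [hfo, MulEquiv.orderOf_eq, DihedralGroup.orderOf_sr]
    exact h.of_isConj ht (H57.TTRee.ree_conj hm hK t _ (h.inv t ht) ho)
  have hprod : f (e1.symm (DihedralGroup.sr 0)) * f (e1.symm (DihedralGroup.sr 1)) = f (e1.symm (DihedralGroup.r 1)) := by
    rw [← hfm, ← map_mul, DihedralGroup.sr_mul_sr, sub_zero]
  have ho : orderOf (f (e1.symm (DihedralGroup.r 1))) = j := by
    rw [hfo, MulEquiv.orderOf_eq, DihedralGroup.orderOf_r_one]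
  have h1 := h.no_common ht (key 0) (key 1) (hft _) (hft _) (by rw [hprod, ho]; exact hjo)
  have h2 : f (e1.symm (DihedralGroup.r 1)) = 1 := by
    rw [← hprod, h1, h.sq (key 1)]
  rw [h2, orderOf_one] at ho
  omega

end Cfsg.Agent.H281.RT
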