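import Cfsg.Agent.H281.RT.UnAct

/-!
# `PSU_n(3)`, `n ≥ 4` (helper281, for S3126)

`noRT_psu_three`
-/

set_option autoImplicit false
set_option linter.unusedSectionVars false

namespace Cfsg.Agent.H281.RT.Un

open Subgroup Matrix Cfsg Cfsg.Agent.LieClassical.HermBasic Cfsg.Agent.ClassicalGeometry.UnitTransv Cfsg.Agent.H335
open scoped commutatorElement

variable {F : Type*} [Field F] [Fintype F] {n : ℕ}

/-- scalars -/
def Sc {q : ℕ} (g : GU n F q) : Prop := ∃ c : F, ∀ v, ac g v = c • v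

/-- the preimage of `D` -/
def InD {q : ℕ} (D : Set (PSU n F q)) (g : GU n F q) : Prop :=
  ∃ x : SU n F q, inc x = g ∧ QuotientGroup.mk' (center (SU n F q)) x ∈ D

section

variable {q : ℕ}

theorem Sc.inv {g : GU n F q} (h : Sc g) : Sc g⁻¹ := by
  obtain ⟨c, hc⟩ := h
  by_cases h0 : c = 0
  · refine ⟨0, fun v => ?_⟩
    have h1 := hc (ac g⁻¹ v)
    rw [ac_ac_inv, h0, zero_smul] at h1
    rw [h1, ac_zero, smul_zero]
  · refine ⟨c⁻¹, fun v => ?_⟩
    have h1 := hc (c⁻¹ • v)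
    rw [smul_smul, mul_inv_cancel₀ h0, one_smul] at h1
    nth_rewrite 1 [← h1]
    rw [ac_inv_ac]

theorem Sc.comm {g : GU n F q} (h : Sc g) (k : GU n F q) : g * k = k * g := by
  obtain ⟨c, hc⟩ := h
  apply ac_ext
  intro v
  rw [ac_mul, ac_mul, hc, hc, ac_smul]

end

theorem sc_iff {q : ℕ} (hF : Fintype.card F = q ^ 2) (hn : 3 ≤ n) (x : SU n F q) :
    QuotientGroup.mk' (center (SU n F q)) x = 1 ↔ Sc (inc x) := by
  rw [QuotientGroup.mk'_apply, QuotientGroup.eq_one_iff]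
  constructor
  · rw [LieClassical.SUBasic.mem_center_SU_iff hF hn]
    rintro ⟨c, h1, h2, rfl⟩
    refine ⟨c, fun v => ?_⟩
    rw [ac_inc, act_def, LieClassical.SUBasic.coe_suScalar]
    funext i
    rw [mulVec_diagonal]
    rfl
  · intro h
    rw [mem_center_iff]
    intro y
    apply inc_injective
    rw [map_mul, map_mul, h.comm]

section

variable {q : ℕ} {D : Set (PSU n F q)} (hF : Fintype.card F = q ^ 2) (hn : 3 ≤ n)

theorem InD.conj (h : RT D) {g x : GU n F q} (hg : InD D g) (hx : dt x = 1) : InD D (x * g * x⁻¹) := by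
  obtain ⟨y, rfl, hy⟩ := hg
  obtain ⟨x, rfl⟩ := exists_inc hx
  refine ⟨x * y * x⁻¹, by rw [map_mul, map_mul, map_inv], ?_⟩
  have h1 := h.conj _ hy (QuotientGroup.mk' _ x)
  rw [← map_mul, ← map_inv, ← map_mul] at h1
  exact h1

theorem InD.dt {g : GU n F q} (hg : InD D g) : dt g = 1 := by
  obtain ⟨y, rfl, hy⟩ := hg
  exact dt_inc y

include hF hn

theorem InD.not_sc (h : RT D) {g : GU n F q} (hg : InD D g) : ¬ Sc g := by
  obtain ⟨y, rfl, hy⟩ := hg
  intro hc
  exact h.ne_one hy ((sc_iff hF hn y).2 hc)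

theorem InD.sq (h : RT D) {g : GU n F q} (hg : InD D g) : Sc (g * g) := by
  obtain ⟨y, rfl, hy⟩ := hg
  rw [← map_mul, ← sc_iff hF hn, map_mul]
  exact h.sq hy

theorem InD.of_sc {g k : GU n F q} (hg : InD D g) (hk : Un.dt k = 1) (hs : Sc (k * g⁻¹)) : InD D k := by
  obtain ⟨y, rfl, hy⟩ := hg
  obtain ⟨x, rfl⟩ := exists_inc hk
  refine ⟨x, rfl, ?_⟩
  rw [← map_inv, ← map_mul, ← sc_iff hF hn, map_mul, map_inv, mul_inv_eq_one] at hs
  rw [hs]
  exact hy

theorem comm_of_sc {x y : SU n F q} (hc : Sc (inc x * inc y * (inc x)⁻¹ * (inc y)⁻¹)) :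
    Commute (QuotientGroup.mk' (center (SU n F q)) x) (QuotientGroup.mk' (center (SU n F q)) y) := by
  rw [← map_inv, ← map_inv, ← map_mul, ← map_mul, ← map_mul, ← sc_iff hF hn, map_mul, map_mul, map_mul, map_inv,
    map_inv] at hc
  change _ * _ = _ * _
  rw [mul_inv_eq_one, mul_inv_eq_iff_eq_mul] at hc
  exact hc

theorem InD.mul (h : RT D) {g k : GU n F q} (hg : InD D g) (hk : InD D k) (hc : Sc (g * k * g⁻¹ * k⁻¹))
    (hsc : ¬ Sc (g * k)) : InD D (g * k) := by
  obtain ⟨x, rfl, hx⟩ := hg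
  obtain ⟨y, rfl, hy⟩ := hk
  refine ⟨x * y, map_mul _ _ _, ?_⟩
  rw [map_mul]
  refine h.mul _ hx _ hy (fun e => hsc ?_) (comm_of_sc hF hn hc)
  rw [← map_mul, ← sc_iff hF hn, map_mul, e]
  exact h.sq hy

theorem InD.sc_of_odd (h : RT D) {w x y : GU n F q} (hw : InD D w) (hx : InD D x) (hy : InD D y)
    (hxw : Sc (x * w * x⁻¹ * w⁻¹)) (hyw : Sc (y * w * y⁻¹ * w⁻¹)) {k : ℕ} (hk : Odd k) (ho : (x * y) ^ k = 1) :
    Sc (x * y) := by
  obtain ⟨w, rfl, hw2⟩ := hw
  obtain ⟨x, rfl, hx2⟩ := hx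
  obtain ⟨y, rfl, hy2⟩ := hy
  rw [← map_mul, ← sc_iff hF hn, map_mul]
  have e : ((QuotientGroup.mk' (center (SU n F q)) x) * (QuotientGroup.mk' (center (SU n F q)) y)) ^ k = 1 := by
    rw [← map_mul, ← map_pow]
    have e1 : (x * y) ^ k = 1 := by
      apply inc_injective
      rw [map_pow, map_mul, ho, map_one]
    rw [e1, map_one]
  have hodd := Odd.of_dvd_nat hk (orderOf_dvd_of_pow_eq_one e)
  have h1 := RT.pow_four h hw2 hx2 hy2 (comm_of_sc hF hn hxw) (comm_of_sc hF hn hyw)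
  have h2 : Nat.Coprime (orderOf ((QuotientGroup.mk' (center (SU n F q)) x) * (QuotientGroup.mk' (center (SU n F q)) y)))
      (2 ^ 2) := Nat.Coprime.pow_right _ hodd.coprime_two_right
  have h3 := Nat.eq_one_of_dvd_coprimes h2 dvd_rfl (orderOf_dvd_of_pow_eq_one h1)
  rwa [orderOf_eq_one_iff] at h3

/-- some member of `D` commutes with a given 2-element, modulo scalars -/
theorem exists_z (h : RT D) (hne : D.Nonempty) {a : GU n F q} (ha : Un.dt a = 1) {k : ℕ} (hk : a ^ 2 ^ k = 1) :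
    ∃ z, InD D z ∧ Sc (z * a * z⁻¹ * a⁻¹) := by
  have hp2 : Fact (Nat.Prime 2) := ⟨Nat.prime_two⟩
  have : Finite (SU n F q) := inferInstance
  obtain ⟨x, rfl⟩ := exists_inc ha
  have h1 : (QuotientGroup.mk' (center (SU n F q)) x) ^ 2 ^ k = 1 := by
    rw [← map_pow]
    have e1 : x ^ 2 ^ k = 1 := by
      apply inc_injective
      rw [map_pow, hk, map_one]
    rw [e1, map_one]
  have h2 : IsPGroup 2 (zpowers (QuotientGroup.mk' (center (SU n F q)) x)) := by
    have h3 : Nat.card (zpowers (QuotientGroup.mk' (center (SU n F q)) x)) ∣ 2 ^ k := by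
      rw [Nat.card_zpowers]
      exact orderOf_dvd_of_pow_eq_one h1
    obtain ⟨j, -, hj⟩ := (Nat.dvd_prime_pow Nat.prime_two).1 h3
    exact IsPGroup.of_card hj
  obtain ⟨T, hT⟩ := h2.exists_le_sylow
  obtain ⟨z, hzD, -, hz⟩ := RT.exists_central h T hne
  obtain ⟨z, rfl⟩ := QuotientGroup.mk'_surjective _ z
  refine ⟨inc z, ⟨z, rfl, hzD⟩, ?_⟩
  have h5 := hz _ (hT (mem_zpowers _))
  rw [← map_inv, ← map_inv, ← map_mul, ← map_mul, ← map_mul, ← sc_iff hF hn, map_mul, map_mul, map_mul, map_inv,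
    map_inv]
  have h6 : QuotientGroup.mk' (center (SU n F q)) x * QuotientGroup.mk' (center (SU n F q)) z =
      QuotientGroup.mk' (center (SU n F q)) z * QuotientGroup.mk' (center (SU n F q)) x := h5
  rw [← h6, mul_inv_cancel_right, mul_inv_cancel]

end

/-! ### vectors orthogonal to given ones -/

section vec

variable {q : ℕ} (hF : Fintype.card F = q ^ 2)
include hF

/-- a non-isotropic vector in a space with `h(x, y) ≠ 0` -/
theorem exists_aniso {W : Submodule F (Fin n → F)} {x y : Fin n → F} (hx : x ∈ W) (hy : y ∈ W)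
    (hxy : hermForm n F q x y ≠ 0) {δ : F} (hδ : δ ^ q = δ) : ∃ v ∈ W, hermForm n F q v v = δ := by
  obtain ⟨v, hv, hv0⟩ : ∃ v ∈ W, hermForm n F q v v ≠ 0 := by
    by_contra hcon
    push Not at hcon
    have hx0 := hcon x hx
    have hy0 := hcon y hy
    obtain ⟨c, hc⟩ := exists_trace_ne hF
    have hyx : hermForm n F q y x = hermForm n F q x y ^ q := by rw [herm_swap hF]
    have hc' := hcon ((c / hermForm n F q x y) • x + y) (W.add_mem (W.smul_mem _ hx) hy)
    rw [herm_add_left, herm_add_right hF, herm_add_right hF, herm_smul_left, herm_smul_left, herm_smul_right,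
      herm_smul_right, hx0, hy0, hyx, ← mul_pow, div_mul_cancel₀ _ hxy] at hc'
    apply hc
    linear_combination hc'
  have h1 := herm_self_pow hF v
  obtain ⟨c, hc⟩ := exists_norm_eq hF (c := δ * (hermForm n F q v v)⁻¹) (by rw [mul_pow, hδ, inv_pow, h1])
  refine ⟨c • v, W.smul_mem _ hv, ?_⟩
  rw [herm_smul_self hF, hc, mul_assoc, inv_mul_cancel₀ hv0, mul_one]

/-- a vector of given norm orthogonal to `k < n` pairwise orthogonal non-isotropic vectors -/
theorem exists_perp {k : ℕ} (f : Fin k → Fin n → F) (hkn : k < n) (hf : ∀ i j, i ≠ j → hermForm n F q (f i) (f j) = 0)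
    (hf0 : ∀ i, hermForm n F q (f i) (f i) ≠ 0) {δ : F} (hδ : δ ^ q = δ) :
    ∃ v, (∀ i, hermForm n F q v (f i) = 0) ∧ hermForm n F q v v = δ := by
  let L : (Fin n → F) →ₗ[F] (Fin k → F) :=
    { toFun := fun x i => hermForm n F q x (f i)
      map_add' := fun x y => funext fun i => herm_add_left x y (f i)
      map_smul' := fun c x => funext fun i => herm_smul_left c x (f i) }
  have hL : ∀ x, x ∈ LinearMap.ker L ↔ ∀ i, hermForm n F q x (f i) = 0 := by
    intro x
    rw [LinearMap.mem_ker]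
    exact ⟨fun h i => congrFun h i, fun h => funext h⟩
  have hker : LinearMap.ker L ≠ ⊥ := by
    apply LinearMap.ker_ne_bot_of_finrank_lt
    rw [Module.finrank_fintype_fun_eq_card, Module.finrank_fintype_fun_eq_card, Fintype.card_fin, Fintype.card_fin]
    exact hkn
  obtain ⟨x, hx, hx0⟩ := (Submodule.ne_bot_iff _).1 hker
  obtain ⟨v, hv⟩ := exists_herm_ne_zero hF hx0
  have hvx : hermForm n F q v x ≠ 0 := fun h => hv (herm_eq_zero_swap hF h)
  have hxf := (hL x).1 hx
  have hy : v - ∑ i, (hermForm n F q v (f i) * (hermForm n F q (f i) (f i))⁻¹) • f i ∈ LinearMap.ker L := by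
    rw [hL]
    intro j
    rw [herm_sub_left, herm_sum_left, Finset.sum_eq_single j]
    · rw [herm_smul_left, mul_assoc, inv_mul_cancel₀ (hf0 j), mul_one, sub_self]
    · intro i _ hij
      rw [herm_smul_left, hf i j hij, mul_zero]
    · intro h
      exact absurd (Finset.mem_univ _) h
  obtain ⟨w, hw, hw1⟩ := exists_aniso hF hy hx (by
    rw [herm_sub_left, herm_sum_left, Finset.sum_eq_zero, sub_zero]
    · exact hvx
    · intro i _
      rw [herm_smul_left, herm_eq_zero_swap hF (hxf i), mul_zero]) hδ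
  exact ⟨w, (hL w).1 hw, hw1⟩

end vec

end Cfsg.Agent.H281.RT.Un
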