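import Cfsg.Agent.H281.RT.RowUn

/-!
# `PSU_n(3)`, `n ≥ 4`: a product of two reflections in `D` (helper281, for S3126)
-/

set_option autoImplicit false
set_option linter.unusedSectionVars false

namespace Cfsg.Agent.H281.RT.Un

open Subgroup Matrix Cfsg Cfsg.Agent.LieClassical.HermBasic Cfsg.Agent.ClassicalGeometry.UnitTransv Cfsg.Agent.H335
open scoped commutatorElement

variable {F : Type*} [Field F] [Fintype F] {n : ℕ}

section

variable (hF : Fintype.card F = 3 ^ 2)
include hF

/-- an element of order four -/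
theorem exists_i : ∃ i : F, i * i = -1 := by
  have h1 : ((-1 : F)) ^ 3 = -1 := by norm_num
  obtain ⟨c, hc⟩ := exists_norm_eq hF h1
  refine ⟨c ^ 2, ?_⟩
  rw [← hc]
  ring

variable {D : Set (PSU n F 3)} (hn : 4 ≤ n) (h : RT D)
include hn h

/-- **Step A**: some `z ∈ D` with the eigenvector `e₀` -/
theorem stepA (hne : D.Nonempty) : ∃ z, InD D z ∧ ∃ (e : Fin n → F) (l : F), hermForm n F 3 e e = 1 ∧ ac z e = l • e := by
  obtain ⟨i, hi⟩ := exists_i hF
  have h2 := two_ne_zero' hF
  have hi1 : i ≠ 1 := by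
    rintro rfl
    apply h2
    linear_combination hi
  have hi2 : -i ≠ 1 := by
    intro h3
    have h4 : i = -1 := by linear_combination -h3
    rw [h4] at hi
    apply h2
    linear_combination hi
  have hii : i ≠ -i := by
    intro h3
    have h4 : 2 * i = 0 := by linear_combination h3
    rcases mul_eq_zero.1 h4 with h5 | h5
    · exact h2 h5
    · rw [h5] at hi
      apply (one_ne_zero : (1 : F) ≠ 0)
      linear_combination hi
  have hi4 : i ^ (3 + 1) = 1 := by linear_combination (i ^ 2 - 1) * hi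
  have hi4' : (-i) ^ (3 + 1) = 1 := by linear_combination (i ^ 2 - 1) * hi
  let k0 : Fin n := ⟨0, by omega⟩
  let k1 : Fin n := ⟨1, by omega⟩
  let k2 : Fin n := ⟨2, by omega⟩
  let k3 : Fin n := ⟨3, by omega⟩
  have h01 : k0 ≠ k1 := by simp [k0, k1]
  have h02 : k0 ≠ k2 := by simp [k0, k2]
  have h03 : k0 ≠ k3 := by simp [k0, k3]
  have h12 : k1 ≠ k2 := by simp [k1, k2]
  have h13 : k1 ≠ k3 := by simp [k1, k3]
  have h23 : k2 ≠ k3 := by simp [k2, k3]
  have hee : ∀ k : Fin n, hermForm n F 3 (Pi.single k 1 : Fin n → F) (Pi.single k 1) = 1 := by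
    intro k
    rw [herm_single_left]
    simp
  have hee0 : ∀ k : Fin n, hermForm n F 3 (Pi.single k 1 : Fin n → F) (Pi.single k 1) ≠ 0 := fun k => by
    rw [hee]; exact one_ne_zero
  have heo : ∀ k l : Fin n, k ≠ l → hermForm n F 3 (Pi.single k 1 : Fin n → F) (Pi.single l 1) = 0 := by
    intro k l hkl
    rw [herm_single_left]
    simp [Pi.single_eq_of_ne hkl]
  obtain ⟨a, ha⟩ : ∃ a, a = ql hF (Pi.single k0 1 : Fin n → F) i (hee0 k0) hi4 * ql hF (Pi.single k1 1 : Fin n → F) (-i) (hee0 k1) hi4' :=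
    ⟨_, rfl⟩
  have haa : ∀ x, ac a x = x + ((i - 1) * x k0) • (Pi.single k0 1 : Fin n → F) + ((-i - 1) * x k1) • (Pi.single k1 1 : Fin n → F) := by
    intro x
    have e0 : hermForm n F 3 x (Pi.single k0 1) = x k0 := by
      rw [herm_single_right hF, one_pow, mul_one]
    have e1 : hermForm n F 3 x (Pi.single k1 1) = x k1 := by
      rw [herm_single_right hF, one_pow, mul_one]
    rw [ha, ac_mul, ac_ql, ac_ql, hee, hee, herm_add_left, herm_smul_left, heo k1 k0 h01.symm, e0, e1]
    simp only [inv_one, mul_one, mul_zero, add_zero]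
    abel
  have ha0 : ∀ x, ac a x k0 = i * x k0 := by
    intro x
    rw [haa]
    simp [Pi.single_eq_of_ne h01]
    ring
  have ha1 : ∀ x, ac a x k1 = -i * x k1 := by
    intro x
    rw [haa]
    simp [Pi.single_eq_of_ne h01.symm]
    ring
  have ha2 : ∀ (x : Fin n → F) k, k ≠ k0 → k ≠ k1 → ac a x k = x k := by
    intro x k hk0 hk1
    rw [haa]
    simp [Pi.single_eq_of_ne hk0, Pi.single_eq_of_ne hk1]
  have hda : dt a = 1 := by
    rw [ha, map_mul, dt_ql, dt_ql]
    linear_combination -hi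
  have hap : a ^ 2 ^ 2 = 1 := by
    apply ac_ext
    intro x
    rw [show (2 : ℕ) ^ 2 = 2 + 2 by norm_num, pow_add, pow_two, ac_mul, ac_mul, ac_mul, ac_one]
    funext k
    by_cases hk0 : k = k0
    · rw [hk0, ha0, ha0, ha0, ha0]
      linear_combination (i ^ 2 - 1) * x k0 * hi
    by_cases hk1 : k = k1
    · rw [hk1, ha1, ha1, ha1, ha1]
      linear_combination (i ^ 2 - 1) * x k1 * hi
    rw [ha2 _ k hk0 hk1, ha2 _ k hk0 hk1, ha2 _ k hk0 hk1, ha2 _ k hk0 hk1]
  obtain ⟨z, hz, c, hc⟩ := exists_z hF (by omega) h hne hda hap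
  have hc' : ∀ x, ac z (ac a x) = c • ac a (ac z x) := by
    intro x
    have h1 := hc (ac a (ac z x))
    rw [← h1, ← ac_mul, ← ac_mul, ← ac_mul]
    congr 1
    group
  have hz0 : ∀ k : Fin n, k ≠ k0 → k ≠ k1 → ac z (Pi.single k 1 : Fin n → F) = c • ac a (ac z (Pi.single k 1)) := by
    intro k hk0 hk1
    rw [← hc']
    congr 1
    rw [haa, Pi.single_eq_of_ne hk0.symm, Pi.single_eq_of_ne hk1.symm]
    simp
  have hc1 : c = 1 := by
    by_contra hcn
    have hx := hz0 k2 h02.symm h12.symm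
    have hy := hz0 k3 h03.symm h13.symm
    obtain ⟨x, hxd⟩ : ∃ x, x = ac z (Pi.single k2 1 : Fin n → F) := ⟨_, rfl⟩
    obtain ⟨y, hyd⟩ : ∃ y, y = ac z (Pi.single k3 1 : Fin n → F) := ⟨_, rfl⟩
    have hxy : hermForm n F 3 x y = 0 := by rw [hxd, hyd, ac_herm, heo _ _ h23]
    have hxx : hermForm n F 3 x x = 1 := by rw [hxd, ac_herm, hee]
    have hyy : hermForm n F 3 y y = 1 := by rw [hyd, ac_herm, hee]
    rw [← hxd] at hx
    rw [← hyd] at hy
    have key : ∀ w : Fin n → F, w = c • ac a w → (∀ k, k ≠ k0 → k ≠ k1 → w k = 0) ∧ (w k0 ≠ 0 → c * i = 1) ∧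
        (w k1 ≠ 0 → -(c * i) = 1) := by
      intro w hw
      refine ⟨fun k hk0 hk1 => ?_, fun h0 => ?_, fun h0 => ?_⟩
      · have h1 := congrFun hw k
        rw [Pi.smul_apply, ha2 _ k hk0 hk1, smul_eq_mul] at h1
        by_contra h0
        apply hcn
        exact mul_right_cancel₀ h0 (by rw [one_mul]; exact h1.symm)
      · have h1 := congrFun hw k0
        rw [Pi.smul_apply, ha0, smul_eq_mul] at h1
        exact mul_right_cancel₀ h0 (by rw [one_mul]; linear_combination -h1)
      · have h1 := congrFun hw k1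
        rw [Pi.smul_apply, ha1, smul_eq_mul] at h1
        exact mul_right_cancel₀ h0 (by rw [one_mul]; linear_combination -h1)
    have hsum : ∀ v w : Fin n → F, (∀ k, k ≠ k0 → k ≠ k1 → v k = 0) →
        hermForm n F 3 v w = v k0 * w k0 ^ 3 + v k1 * w k1 ^ 3 := by
      intro v w hv
      rw [herm_def]
      rw [← Finset.sum_subset (Finset.subset_univ {k0, k1}), Finset.sum_pair h01]
      intro k _ hk
      simp only [Finset.mem_insert, Finset.mem_singleton, not_or] at hk
      rw [hv k hk.1 hk.2, zero_mul]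
    obtain ⟨x2, x0, x1⟩ := key x hx
    obtain ⟨y2, y0, y1⟩ := key y hy
    rw [hsum x y x2] at hxy
    rw [hsum x x x2] at hxx
    rw [hsum y y y2] at hyy
    by_cases hx0 : x k0 = 0
    · by_cases hx1 : x k1 = 0
      · rw [hx0, hx1] at hxx
        simp at hxx
      · have e1 := x1 hx1
        have hy0 : y k0 = 0 := by
          by_contra h0
          have e2 := y0 h0
          apply h2
          linear_combination -e1 - e2
        rw [hx0, zero_mul, zero_add] at hxy
        have hy1 : y k1 = 0 := by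
          rcases mul_eq_zero.1 hxy with h3 | h3
          · exact absurd h3 hx1
          · exact pow_eq_zero_iff (by norm_num) |>.1 h3
        rw [hy0, hy1] at hyy
        simp at hyy
    · have e1 := x0 hx0
      have hx1 : x k1 = 0 := by
        by_contra h0
        have e2 := x1 h0
        apply h2
        linear_combination -e1 - e2
      have hy1 : y k1 = 0 := by
        by_contra h0
        have e2 := y1 h0
        apply h2
        linear_combination -e1 - e2
      rw [hx1, zero_mul, add_zero] at hxy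
      have hy0 : y k0 = 0 := by
        rcases mul_eq_zero.1 hxy with h3 | h3
        · exact absurd h3 hx0
        · exact pow_eq_zero_iff (by norm_num) |>.1 h3
      rw [hy0, hy1] at hyy
      simp at hyy
  refine ⟨z, hz, Pi.single k0 1, ac z (Pi.single k0 1) k0, hee k0, ?_⟩
  have hy := hc' (Pi.single k0 1)
  rw [hc1, one_smul] at hy
  have he : ac a (Pi.single k0 1 : Fin n → F) = i • Pi.single k0 1 := by
    rw [haa, Pi.single_eq_same, Pi.single_eq_of_ne h01.symm]
    module
  rw [he, ac_smul] at hy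
  funext k
  rw [Pi.smul_apply, smul_eq_mul]
  have hk := congrFun hy k
  rw [Pi.smul_apply, smul_eq_mul] at hk
  by_cases hk0 : k = k0
  · rw [hk0, Pi.single_eq_same, mul_one]
  rw [Pi.single_eq_of_ne hk0, mul_zero]
  by_cases hk1 : k = k1
  · rw [hk1, ha1] at hk
    rw [hk1]
    by_contra h0
    exact hii (mul_right_cancel₀ h0 hk)
  · rw [ha2 _ k hk0 hk1] at hk
    by_contra h0
    exact hi1 (mul_right_cancel₀ h0 (by rw [one_mul]; exact hk))

/-- **Step B** -/
theorem stepB (hne : D.Nonempty) : ∃ (s t : Fin n → F) (hs : hermForm n F 3 s s ≠ 0) (ht : hermForm n F 3 t t ≠ 0),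
    hermForm n F 3 s s = hermForm n F 3 t t ∧ hermForm n F 3 s t = 0 ∧ InD D (rf hF s hs * rf hF t ht) := by
  obtain ⟨z, hz, a, l, haa, hza⟩ := stepA hF hn h hne
  have h2 := two_ne_zero' hF
  have hl : l * l ^ 3 = 1 := by
    have h1 := ac_herm z a a
    rwa [hza, herm_smul_self hF, haa, mul_one] at h1
  have hl0 : l ≠ 0 := by
    rintro rfl
    rw [zero_mul] at hl
    exact zero_ne_one hl
  have ha0 : a ≠ 0 := by
    rintro rfl
    rw [herm_zero_left] at haa
    exact zero_ne_one haa
  obtain ⟨m, hm⟩ := hz.sq hF (by omega) h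
  have hm' : m = l * l := by
    have h1 := hm a
    rw [ac_mul, hza, ac_smul, hza, smul_smul, ← sub_eq_zero, ← sub_smul] at h1
    exact (sub_eq_zero.1 ((smul_eq_zero.1 h1).resolve_right ha0)).symm
  have hzz : ∀ x, ac z (ac z x) = (l * l) • x := by
    intro x
    rw [← ac_mul, hm, hm']
  -- the eigenspaces
  have hsplit : ∀ x : Fin n → F, ∃ y w, x = y + w ∧ ac z y = l • y ∧ ac z w = -(l • w) := by
    intro x
    refine ⟨(2 : F)⁻¹ • (x + l⁻¹ • ac z x), (2 : F)⁻¹ • (x - l⁻¹ • ac z x), ?_, ?_, ?_⟩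
    · have e : (2 : F)⁻¹ • (x + l⁻¹ • ac z x) + (2 : F)⁻¹ • (x - l⁻¹ • ac z x) = ((2 : F)⁻¹ * 2) • x := by module
      rw [e, inv_mul_cancel₀ h2, one_smul]
    · rw [ac_smul, ac_add, ac_smul, hzz]
      have e : l • (2 : F)⁻¹ • (x + l⁻¹ • ac z x) = (2 : F)⁻¹ • (l • x + (l * l⁻¹) • ac z x) := by module
      rw [e, mul_inv_cancel₀ hl0, one_smul, smul_smul, ← mul_assoc, inv_mul_cancel₀ hl0, one_mul, add_comm]
    · rw [ac_smul, ac_sub, ac_smul, hzz]
      have e : -(l • (2 : F)⁻¹ • (x - l⁻¹ • ac z x)) = (2 : F)⁻¹ • ((l * l⁻¹) • ac z x - l • x) := by module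
      rw [e, mul_inv_cancel₀ hl0, one_smul, smul_smul, ← mul_assoc, inv_mul_cancel₀ hl0, one_mul]
  have horth : ∀ y w : Fin n → F, ac z y = l • y → ac z w = -(l • w) → hermForm n F 3 y w = 0 := by
    intro y w hy hw
    have h1 := ac_herm z y w
    rw [hy, hw, herm_neg_right hF, herm_smul_left, herm_smul_right, ← mul_assoc, hl, one_mul] at h1
    have h3 : 2 * hermForm n F 3 y w = 0 := by linear_combination -h1
    exact (mul_eq_zero.1 h3).resolve_left h2
  let W : Submodule F (Fin n → F) :=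
    { carrier := {w | ac z w = -(l • w)}
      add_mem' := fun {x y} hx hy => by
        change ac z (x + y) = -(l • (x + y))
        rw [ac_add, show ac z x = -(l • x) from hx, show ac z y = -(l • y) from hy, smul_add, neg_add]
      zero_mem' := by
        change ac z 0 = -(l • 0)
        rw [ac_zero, smul_zero, neg_zero]
      smul_mem' := fun c x hx => by
        change ac z (c • x) = -(l • (c • x))
        rw [ac_smul, show ac z x = -(l • x) from hx, smul_neg, smul_comm] }
  have hW : ∀ w, w ∈ W ↔ ac z w = -(l • w) := fun w => Iff.rfl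
  obtain ⟨w0, hw0W, hw0⟩ : ∃ w ∈ W, w ≠ 0 := by
    by_contra hcon
    push Not at hcon
    apply hz.not_sc hF (by omega) h
    refine ⟨l, fun x => ?_⟩
    obtain ⟨y, w, rfl, hy, hw⟩ := hsplit x
    rw [hcon w hw, add_zero]
    exact hy
  obtain ⟨v, hv⟩ := exists_herm_ne_zero hF hw0
  have hvw : hermForm n F 3 v w0 ≠ 0 := fun h => hv (herm_eq_zero_swap hF h)
  obtain ⟨y, w, rfl, hy, hw⟩ := hsplit v
  rw [herm_add_left, horth y w0 hy hw0W, zero_add] at hvw
  obtain ⟨b, hbW, hbb⟩ := exists_aniso hF (W := W) hw hw0W hvw (one_pow 3)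
  have hab := horth a b hza hbW
  have hba := herm_eq_zero_swap hF hab
  -- the vectors
  have e1 : hermForm n F 3 (a + b) (a + b) = 2 := by
    rw [herm_add_left, herm_add_right hF, herm_add_right hF, hab, hba, haa, hbb]
    ring
  have e2 : hermForm n F 3 (a - b) (a - b) = 2 := by
    rw [herm_sub_left, herm_sub_right hF, herm_sub_right hF, hab, hba, haa, hbb]
    ring
  have e3 : hermForm n F 3 (a + b) (a - b) = 0 := by
    rw [herm_add_left, herm_sub_right hF, herm_sub_right hF, hab, hba, haa, hbb]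
    ring
  have hs : hermForm n F 3 (a + b) (a + b) ≠ 0 := by rw [e1]; exact h2
  have ht : hermForm n F 3 (a - b) (a - b) ≠ 0 := by rw [e2]; exact h2
  have ha : hermForm n F 3 a a ≠ 0 := by rw [haa]; exact one_ne_zero
  have hb : hermForm n F 3 b b ≠ 0 := by rw [hbb]; exact one_ne_zero
  refine ⟨a + b, a - b, hs, ht, by rw [e1, e2], e3, ?_⟩
  have c1 : z * rf hF a ha * z⁻¹ = rf hF a ha := conj_rf hF z ha ha hl0 hza
  have c2 : z * rf hF (a - b) ht * z⁻¹ = rf hF (a + b) hs := by
    refine conj_rf hF z ht hs hl0 ?_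
    rw [ac_sub, hza, (hW b).1 hbW]
    module
  have hg : dt (rf hF (a - b) ht * rf hF a ha) = 1 := by
    rw [map_mul, dt_rf, dt_rf]; norm_num
  have hz' := hz.conj h hg
  rw [mul_inv_eq_iff_eq_mul] at c1
  have c4 : rf hF (a - b) ht * rf hF a ha * z * (rf hF (a - b) ht * rf hF a ha)⁻¹ =
      rf hF (a - b) ht * z * rf hF (a - b) ht := by
    rw [_root_.mul_inv_rev, rf_inv, rf_inv]
    calc rf hF (a - b) ht * rf hF a ha * z * (rf hF a ha * rf hF (a - b) ht)
        = rf hF (a - b) ht * rf hF a ha * (z * rf hF a ha) * rf hF (a - b) ht := by group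
      _ = rf hF (a - b) ht * (rf hF a ha * rf hF a ha) * z * rf hF (a - b) ht := by rw [c1]; group
      _ = _ := by rw [rf_mul_self, mul_one]
  rw [c4] at hz'
  have hSzz : Sc (z * z) := ⟨m, hm⟩
  have c5 : z * (rf hF (a - b) ht * z * rf hF (a - b) ht) = rf hF (a + b) hs * rf hF (a - b) ht * (z * z) := by
    calc z * (rf hF (a - b) ht * z * rf hF (a - b) ht)
        = z * rf hF (a - b) ht * z⁻¹ * ((z * z) * rf hF (a - b) ht) := by group
      _ = rf hF (a + b) hs * rf hF (a - b) ht * (z * z) := by rw [c2, hSzz.comm]; group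
  have hnsc : ¬ Sc (rf hF (a + b) hs * rf hF (a - b) ht) := by
    rintro ⟨c, hc⟩
    -- a vector orthogonal to both
    obtain ⟨v, hv, hvv⟩ := exists_perp hF (k := 2) ![a + b, a - b] (by omega) (by
      intro i j hij
      fin_cases i <;> fin_cases j
      · exact absurd rfl hij
      · exact e3
      · exact herm_eq_zero_swap hF e3
      · exact absurd rfl hij) (by
      intro i
      fin_cases i
      · exact hs
      · exact ht) (one_pow 3)
    have hv1 : hermForm n F 3 v (a + b) = 0 := hv 0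
    have hv2 : hermForm n F 3 v (a - b) = 0 := hv 1
    have hv0 : v ≠ 0 := by
      rintro rfl
      rw [herm_zero_left] at hvv
      exact zero_ne_one hvv
    have h3 := hc v
    rw [ac_mul, ac_rf_perp hF ht hv2, ac_rf_perp hF hs hv1] at h3
    have hc1 : c = 1 := by
      have h4 : (c - 1) • v = 0 := by rw [sub_smul, ← h3, one_smul, sub_self]
      exact sub_eq_zero.1 ((smul_eq_zero.1 h4).resolve_right hv0)
    have h5 := hc (a - b)
    rw [ac_mul, ac_rf_self, ac_neg, ac_rf_perp hF hs (herm_eq_zero_swap hF e3), hc1, one_smul] at h5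
    have h6 : (2 : F) • (a - b) = 0 := by
      rw [two_smul]
      nth_rewrite 1 [← h5]
      rw [neg_add_cancel]
    have h7 := (smul_eq_zero.1 h6).resolve_left h2
    rw [h7, herm_zero_left] at ht
    exact ht rfl
  have hcomm := rf_comm hF hs ht (herm_eq_zero_swap hF e3)
  have hprod := hz.mul hF (by omega) h hz' ?_ ?_
  · refine hprod.of_sc hF (by omega) (by rw [map_mul, dt_rf, dt_rf]; norm_num) ?_
    rw [c5, _root_.mul_inv_rev, ← mul_assoc, ← hSzz.inv.comm]
    have : (z * z)⁻¹ * (rf hF (a + b) hs * rf hF (a - b) ht) * (rf hF (a + b) hs * rf hF (a - b) ht)⁻¹ = (z * z)⁻¹ := by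
      group
    rw [this]
    exact hSzz.inv
  · -- commuting modulo scalars
    have c6 : (rf hF (a - b) ht * z * rf hF (a - b) ht) * z = rf hF (a + b) hs * rf hF (a - b) ht * (z * z) := by
      calc (rf hF (a - b) ht * z * rf hF (a - b) ht) * z
          = rf hF (a - b) ht * (z * rf hF (a - b) ht * z⁻¹) * (z * z) := by group
        _ = _ := by rw [c2, ← hcomm]
    refine ⟨1, fun v => ?_⟩
    rw [one_smul]
    have c7 : z * (rf hF (a - b) ht * z * rf hF (a - b) ht) * z⁻¹ * (rf hF (a - b) ht * z * rf hF (a - b) ht)⁻¹ = 1 := by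
      rw [mul_inv_eq_one, mul_inv_eq_iff_eq_mul, c5, c6]
    rw [c7, ac_one]
  · intro hsc
    apply hnsc
    rw [c5] at hsc
    obtain ⟨c, hc⟩ := hsc
    have hl2 : l * l ≠ 0 := mul_ne_zero hl0 hl0
    refine ⟨c * (l * l)⁻¹, fun v => ?_⟩
    have h3 := hc ((l * l)⁻¹ • v)
    rw [ac_mul _ (z * z), hm, hm', smul_smul, mul_inv_cancel₀ hl2, one_smul, smul_smul] at h3
    exact h3

end

end Cfsg.Agent.H281.RT.Un
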