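import Cfsg.Agent.H281.RT.RowUnB

/-!
# `PSU_n(3)`, `n ≥ 4` (helper281, for S3126)

`noRT_psu_three`
-/

set_option autoImplicit false
set_option linter.unusedSectionVars false
set_option linter.unusedSimpArgs false

namespace Cfsg.Agent.H281.RT.Un

open Subgroup Matrix Cfsg Cfsg.Agent.LieClassical.HermBasic Cfsg.Agent.ClassicalGeometry.UnitTransv Cfsg.Agent.H335
open scoped commutatorElement

variable {F : Type*} [Field F] [Fintype F] {n : ℕ}

section

variable (hF : Fintype.card F = 3 ^ 2)

/-- `r_t r_{t+u}`, `u` isotropic, orthogonal to `t` -/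
theorem rr_ac {t u : Fin n → F} (ht0 : hermForm n F 3 t t ≠ 0) (hu : hermForm n F 3 u u = 0)
    (htu : hermForm n F 3 t u = 0) (h1 : hermForm n F 3 (t + u) (t + u) ≠ 0) (x : Fin n → F) :
    ac (rf hF t ht0 * rf hF (t + u) h1) x = x + (2 * (hermForm n F 3 t t)⁻¹ * hermForm n F 3 x u) • t -
      (2 * (hermForm n F 3 t t)⁻¹ * hermForm n F 3 x t + 2 * (hermForm n F 3 t t)⁻¹ * hermForm n F 3 x u) • u := by
  have hut := herm_eq_zero_swap hF htu
  have e1 : hermForm n F 3 (t + u) (t + u) = hermForm n F 3 t t := by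
    rw [herm_add_left, herm_add_right hF, herm_add_right hF, htu, hut, hu]; ring
  rw [ac_mul, ac_rf, ac_rf, e1, herm_sub_left, herm_smul_left, herm_add_left, hut, herm_add_right hF, add_zero]
  have e2 : 2 * (hermForm n F 3 t t)⁻¹ * (hermForm n F 3 x t - 2 * (hermForm n F 3 t t)⁻¹ *
      (hermForm n F 3 x t + hermForm n F 3 x u) * hermForm n F 3 t t) =
      -(2 * (hermForm n F 3 t t)⁻¹ * hermForm n F 3 x t) - 2 * (2 * (hermForm n F 3 t t)⁻¹ * hermForm n F 3 x u) := by
    field_simp
    ring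
  rw [e2]
  module

theorem rr_cube {t u : Fin n → F} (ht0 : hermForm n F 3 t t ≠ 0) (hu : hermForm n F 3 u u = 0)
    (htu : hermForm n F 3 t u = 0) (h1 : hermForm n F 3 (t + u) (t + u) ≠ 0) :
    (rf hF t ht0 * rf hF (t + u) h1) ^ 3 = 1 := by
  have h3 := three_eq_zero hF
  have hut := herm_eq_zero_swap hF htu
  obtain ⟨A, hA⟩ : ∃ A : (Fin n → F) → F, ∀ x, A x = 2 * (hermForm n F 3 t t)⁻¹ * hermForm n F 3 x t := ⟨_, fun _ => rfl⟩
  obtain ⟨B, hB⟩ : ∃ B : (Fin n → F) → F, ∀ x, B x = 2 * (hermForm n F 3 t t)⁻¹ * hermForm n F 3 x u := ⟨_, fun _ => rfl⟩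
  have h4 : ∀ x, ac (rf hF t ht0 * rf hF (t + u) h1) x = x + B x • t - (A x + B x) • u := by
    intro x
    rw [hA, hB]
    exact rr_ac hF ht0 hu htu h1 x
  have h5 : ∀ x (b c : F), A (x + b • t - c • u) = A x + 2 * b := by
    intro x b c
    rw [hA, hA, herm_sub_left, herm_add_left, herm_smul_left, herm_smul_left, hut]
    field_simp
    ring
  have h6 : ∀ x (b c : F), B (x + b • t - c • u) = B x := by
    intro x b c
    rw [hB, hB, herm_sub_left, herm_add_left, herm_smul_left, herm_smul_left, htu, hu]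
    ring
  apply ac_ext
  intro x
  rw [pow_succ, pow_two, ac_mul, ac_mul, ac_one, h4 x, h4, h4, h6, h5]
  have h7 : A (x + B x • t - (A x + B x) • u + B x • t - (A x + 2 * B x + B x) • u) = A x + 2 * (2 * B x) := by
    have e : x + B x • t - (A x + B x) • u + B x • t - (A x + 2 * B x + B x) • u =
        x + (2 * B x) • t - (A x + B x + (A x + 2 * B x + B x)) • u := by module
    rw [e, h5]
  have h8 : B (x + B x • t - (A x + B x) • u + B x • t - (A x + 2 * B x + B x) • u) = B x := by
    have e : x + B x • t - (A x + B x) • u + B x • t - (A x + 2 * B x + B x) • u =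
        x + (2 * B x) • t - (A x + B x + (A x + 2 * B x + B x)) • u := by module
    rw [e, h6]
  rw [h7, h8]
  have e : x + B x • t - (A x + B x) • u + B x • t - (A x + 2 * B x + B x) • u + B x • t -
      (A x + 2 * (2 * B x) + B x) • u = x + (3 : F) • (B x • t - (A x + 3 * B x) • u) := by module
  rw [e, h3, zero_smul, add_zero]

variable {D : Set (PSU n F 3)} (h : RT D)
include h

/-- moving one of the vectors -/
theorem move {a b c : Fin n → F} (ha : hermForm n F 3 a a ≠ 0) (hb : hermForm n F 3 b b ≠ 0)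
    (hc : hermForm n F 3 c c ≠ 0) (hbc : hermForm n F 3 b c = 0) (hba : hermForm n F 3 b a = 0)
    (hca : hermForm n F 3 c a = 0) (he : hermForm n F 3 b b = hermForm n F 3 c c)
    (hD : InD D (rf hF a ha * rf hF b hb)) : InD D (rf hF a ha * rf hF c hc) := by
  have h2 := two_ne_zero' hF
  have hcb := herm_eq_zero_swap hF hbc
  have e1 : hermForm n F 3 (b - c) (b - c) = 2 * hermForm n F 3 b b := by
    rw [herm_sub_left, herm_sub_right hF, herm_sub_right hF, hbc, hcb, ← he]
    ring
  have h1 : hermForm n F 3 (b - c) (b - c) ≠ 0 := by rw [e1]; exact mul_ne_zero h2 hb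
  have hg : dt (rf hF (b - c) h1 * rf hF b hb) = 1 := by
    rw [map_mul, dt_rf, dt_rf]; norm_num
  have h3 := hD.conj h hg
  have g1 : ac (rf hF (b - c) h1 * rf hF b hb) a = a := by
    rw [ac_mul, ac_rf_perp hF hb (herm_eq_zero_swap hF hba), ac_rf_perp hF h1 (by
      rw [herm_sub_right hF, herm_eq_zero_swap hF hba, herm_eq_zero_swap hF hca, sub_zero])]
  have g2 : ac (rf hF (b - c) h1 * rf hF b hb) b = -c := by
    rw [ac_mul, ac_rf_self, ac_neg, ac_rf_sub hF he hbc]
  have e2 : rf hF (b - c) h1 * rf hF b hb * (rf hF a ha * rf hF b hb) * (rf hF (b - c) h1 * rf hF b hb)⁻¹ =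
      rf hF a ha * rf hF c hc := by
    nth_rewrite 2 [← conj_rf' hF _ ha ha g1]
    rw [← conj_rf_neg hF _ hb hc g2]
    group
  rwa [e2] at h3

theorem false_of_five (hn : 5 ≤ n) {s t : Fin n → F} (hs : hermForm n F 3 s s ≠ 0) (ht : hermForm n F 3 t t ≠ 0)
    (hst : hermForm n F 3 s t = 0) (hD : InD D (rf hF s hs * rf hF t ht)) : False := by
  have h2 := two_ne_zero' hF
  have hts := herm_eq_zero_swap hF hst
  -- `t'`
  obtain ⟨t', ht'f, ht'⟩ := exists_perp hF (k := 2) ![s, t] (by omega) (by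
    intro i j hij
    fin_cases i <;> fin_cases j
    · exact absurd rfl hij
    · exact hst
    · exact hts
    · exact absurd rfl hij) (by
    intro i
    fin_cases i
    · exact hs
    · exact ht) (herm_self_pow hF t)
  have ht's : hermForm n F 3 t' s = 0 := ht'f 0
  have ht't : hermForm n F 3 t' t = 0 := ht'f 1
  have hst' := herm_eq_zero_swap hF ht's
  have htt' := herm_eq_zero_swap hF ht't
  have ht'0 : hermForm n F 3 t' t' ≠ 0 := by rw [ht']; exact ht
  -- `c`
  obtain ⟨c, hcf, hcc⟩ := exists_perp hF (k := 3) ![s, t, t'] (by omega) (by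
    intro i j hij
    fin_cases i <;> fin_cases j
    · exact absurd rfl hij
    · exact hst
    · exact hst'
    · exact hts
    · exact absurd rfl hij
    · exact htt'
    · exact ht's
    · exact ht't
    · exact absurd rfl hij) (by
    intro i
    fin_cases i
    · exact hs
    · exact ht
    · exact ht'0) (one_pow 3)
  have hcs : hermForm n F 3 c s = 0 := hcf 0
  have hct : hermForm n F 3 c t = 0 := hcf 1
  have hct' : hermForm n F 3 c t' = 0 := hcf 2
  have hc0 : hermForm n F 3 c c ≠ 0 := by rw [hcc]; exact one_ne_zero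
  obtain ⟨d, hdf, hdd⟩ := exists_perp hF (k := 4) ![s, t, t', c] (by omega) (by
    intro i j hij
    fin_cases i <;> fin_cases j
    · exact absurd rfl hij
    · exact hst
    · exact hst'
    · exact herm_eq_zero_swap hF hcs
    · exact hts
    · exact absurd rfl hij
    · exact htt'
    · exact herm_eq_zero_swap hF hct
    · exact ht's
    · exact ht't
    · exact absurd rfl hij
    · exact herm_eq_zero_swap hF hct'
    · exact hcs
    · exact hct
    · exact hct'
    · exact absurd rfl hij) (by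
    intro i
    fin_cases i
    · exact hs
    · exact ht
    · exact ht'0
    · exact hc0) (one_pow 3)
  have hds : hermForm n F 3 d s = 0 := hdf 0
  have hdt : hermForm n F 3 d t = 0 := hdf 1
  have hdt' : hermForm n F 3 d t' = 0 := hdf 2
  have hdc : hermForm n F 3 d c = 0 := hdf 3
  have hcd := herm_eq_zero_swap hF hdc
  obtain ⟨ζ, hζ⟩ := exists_norm_eq hF (c := (-1 : F)) (by norm_num)
  obtain ⟨u, hu⟩ : ∃ u, u = c + ζ • d := ⟨_, rfl⟩
  have huu : hermForm n F 3 u u = 0 := by
    rw [hu, herm_add_left, herm_add_right hF, herm_add_right hF, herm_smul_left, herm_smul_left, herm_smul_right,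
      herm_smul_right, hcd, hdc, hcc, hdd]
    linear_combination hζ
  have hus : hermForm n F 3 u s = 0 := by rw [hu, herm_add_left, herm_smul_left, hcs, hds]; ring
  have hut : hermForm n F 3 u t = 0 := by rw [hu, herm_add_left, herm_smul_left, hct, hdt]; ring
  have hut' : hermForm n F 3 u t' = 0 := by rw [hu, herm_add_left, herm_smul_left, hct', hdt']; ring
  have ht'u := herm_eq_zero_swap hF hut'
  have hcu : hermForm n F 3 c u = 1 := by
    rw [hu, herm_add_right hF, herm_smul_right, hcd, hcc]; ring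
  have hu0 : u ≠ 0 := by
    rintro rfl
    rw [herm_zero_right hF] at hcu
    exact zero_ne_one hcu
  -- `x`
  have hx := move hF h hs ht ht'0 htt' hts ht's ht'.symm hD
  -- `y`
  have hq3 : hermForm n F 3 ((2 : F) • t' + u) ((2 : F) • t' + u) = 4 * hermForm n F 3 t' t' := by
    rw [herm_add_left, herm_add_right hF, herm_add_right hF, herm_smul_left, herm_smul_left, herm_smul_right,
      herm_smul_right, ht'u, hut', huu]
    have h3 := three_eq_zero hF
    linear_combination (4 * hermForm n F 3 t' t') * h3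
  have h40 : (4 : F) ≠ 0 := by
    have : (4 : F) = 2 * 2 := by norm_num
    rw [this]
    exact mul_ne_zero h2 h2
  have hq3' : hermForm n F 3 ((2 : F) • t' + u) ((2 : F) • t' + u) ≠ 0 := by rw [hq3]; exact mul_ne_zero h40 ht'0
  have hq4 : hermForm n F 3 (t' + u) (t' + u) = hermForm n F 3 t' t' := by
    rw [herm_add_left, herm_add_right hF, herm_add_right hF, ht'u, hut', huu]; ring
  have hq4' : hermForm n F 3 (t' + u) (t' + u) ≠ 0 := by rw [hq4]; exact ht'0
  have hk : dt (rf hF ((2 : F) • t' + u) hq3' * rf hF t' ht'0) = 1 := by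
    rw [map_mul, dt_rf, dt_rf]; norm_num
  have k1 : ac (rf hF ((2 : F) • t' + u) hq3' * rf hF t' ht'0) s = s := by
    rw [ac_mul, ac_rf_perp hF ht'0 hst', ac_rf_perp hF hq3' (by
      rw [herm_add_right hF, herm_smul_right, hst', herm_eq_zero_swap hF hus]; ring)]
  have k2 : ac (rf hF ((2 : F) • t' + u) hq3' * rf hF t' ht'0) t' = t' + u := by
    rw [ac_mul, ac_rf_self, ac_neg, ac_rf, hq3, herm_add_right hF, herm_smul_right, ht'u, add_zero]
    have e : 2 * (4 * hermForm n F 3 t' t')⁻¹ * ((2 : F) ^ 3 * hermForm n F 3 t' t') = 1 := by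
      have h3 := three_eq_zero hF
      have e8 : (2 : F) ^ 3 = 2 := by linear_combination 2 * h3
      rw [e8, mul_inv]
      field_simp
      norm_num
    rw [e]
    module
  have hy := hx.conj h hk
  have e2 : rf hF ((2 : F) • t' + u) hq3' * rf hF t' ht'0 * (rf hF s hs * rf hF t' ht'0) *
      (rf hF ((2 : F) • t' + u) hq3' * rf hF t' ht'0)⁻¹ = rf hF s hs * rf hF (t' + u) hq4' := by
    nth_rewrite 2 [← conj_rf' hF _ hs hs k1]
    rw [← conj_rf' hF _ ht'0 hq4' k2]
    group
  rw [e2] at hy
  -- commutation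
  have c1 := rf_comm hF hs ht hts
  have c2 := rf_comm hF hs ht'0 ht's
  have c3 := rf_comm hF ht ht'0 ht't
  have c4 := rf_comm hF hs hq4' (by rw [herm_add_left, ht's, hus, add_zero])
  have c5 := rf_comm hF ht hq4' (by rw [herm_add_left, ht't, hut, add_zero])
  have hsc1 : ∀ g k : GU n F 3, g * k = k * g → Sc (g * k * g⁻¹ * k⁻¹) := by
    intro g k hgk
    refine ⟨1, fun v => ?_⟩
    rw [hgk, mul_inv_cancel_right, mul_inv_cancel, ac_one, one_smul]
  have hxw : (rf hF s hs * rf hF t' ht'0) * (rf hF s hs * rf hF t ht) =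
      (rf hF s hs * rf hF t ht) * (rf hF s hs * rf hF t' ht'0) :=
    ((Commute.mul_left (Commute.mul_right (Commute.refl _) c1) (Commute.mul_right c2.symm c3.symm)) :
      Commute (rf hF s hs * rf hF t' ht'0) (rf hF s hs * rf hF t ht)).eq
  have hyw : (rf hF s hs * rf hF (t' + u) hq4') * (rf hF s hs * rf hF t ht) =
      (rf hF s hs * rf hF t ht) * (rf hF s hs * rf hF (t' + u) hq4') :=
    ((Commute.mul_left (Commute.mul_right (Commute.refl _) c1) (Commute.mul_right c4.symm c5.symm)) :
      Commute (rf hF s hs * rf hF (t' + u) hq4') (rf hF s hs * rf hF t ht)).eq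
  -- `ρ`
  have e3 : (rf hF s hs * rf hF t' ht'0) * (rf hF s hs * rf hF (t' + u) hq4') =
      rf hF t' ht'0 * rf hF (t' + u) hq4' := by
    rw [c2]
    calc rf hF t' ht'0 * rf hF s hs * (rf hF s hs * rf hF (t' + u) hq4')
        = rf hF t' ht'0 * (rf hF s hs * rf hF s hs) * rf hF (t' + u) hq4' := by group
      _ = _ := by rw [rf_mul_self, mul_one]
  have hsc := hD.sc_of_odd hF (by omega) h hx hy (hsc1 _ _ hxw) (hsc1 _ _ hyw) (k := 3) (by decide) (by
    rw [e3]
    exact rr_cube hF ht'0 huu ht'u hq4')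
  rw [e3] at hsc
  obtain ⟨l, hl⟩ := hsc
  have h4 := hl u
  rw [rr_ac hF ht'0 huu ht'u hq4', huu, hut'] at h4
  have hl1 : l = 1 := by
    have h5 : (l - 1) • u = 0 := by
      rw [sub_smul, ← h4]
      module
    exact sub_eq_zero.1 ((smul_eq_zero.1 h5).resolve_right hu0)
  have h6 := hl c
  rw [rr_ac hF ht'0 huu ht'u hq4', hcu, hct', hl1] at h6
  have h7 : (2 * (hermForm n F 3 t' t')⁻¹) • (t' - u) = 0 := by
    have h8 := congrArg (fun x => x - c) h6
    simp only [one_smul, sub_self] at h8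
    rw [← h8]
    module
  have h9 := (smul_eq_zero.1 h7).resolve_left (mul_ne_zero h2 (inv_ne_zero ht'0))
  have h10 : hermForm n F 3 (t' - u) t' = 0 := by rw [h9, herm_zero_left]
  rw [herm_sub_left, hut', sub_zero] at h10
  exact ht'0 h10

end

section four

variable (hF : Fintype.card F = 3 ^ 2)
include hF

/-- the product of the reflections in four orthogonal vectors, `n = 4` -/
theorem four_neg (hn : n = 4) {s t s' t' : Fin n → F} (hs : hermForm n F 3 s s ≠ 0) (ht : hermForm n F 3 t t ≠ 0)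
    (hs'0 : hermForm n F 3 s' s' ≠ 0) (ht'0 : hermForm n F 3 t' t' ≠ 0) (hst : hermForm n F 3 s t = 0)
    (hs's : hermForm n F 3 s' s = 0) (hs't : hermForm n F 3 s' t = 0) (ht's : hermForm n F 3 t' s = 0)
    (ht't : hermForm n F 3 t' t = 0) (ht's' : hermForm n F 3 t' s' = 0) (x : Fin n → F) :
    ac (rf hF s' hs'0 * rf hF t' ht'0 * (rf hF s hs * rf hF t ht)) x = -x := by
  have hts := herm_eq_zero_swap hF hst
  have hss' := herm_eq_zero_swap hF hs's
  have hts' := herm_eq_zero_swap hF hs't
  have hst' := herm_eq_zero_swap hF ht's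
  have htt' := herm_eq_zero_swap hF ht't
  have hs't' := herm_eq_zero_swap hF ht's'
  -- the remainder
  have key : ∀ r : Fin n → F, hermForm n F 3 r s = 0 → hermForm n F 3 r t = 0 → hermForm n F 3 r s' = 0 →
      hermForm n F 3 r t' = 0 → r = 0 := by
    intro r r1 r2 r3 r4
    by_contra hr
    -- five vectors in dimension four
    obtain ⟨v, hv⟩ := exists_herm_ne_zero hF hr
    have hli : LinearIndependent F ![s, t, s', t'] := by
      rw [Fintype.linearIndependent_iff]
      intro g hg
      rw [Fin.sum_univ_four] at hg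
      have h1 := congrArg (fun x => hermForm n F 3 x s) hg
      have h2 := congrArg (fun x => hermForm n F 3 x t) hg
      have h3 := congrArg (fun x => hermForm n F 3 x s') hg
      have h4 := congrArg (fun x => hermForm n F 3 x t') hg
      simp only [cons_val_zero, cons_val_one, cons_val, herm_add_left, herm_smul_left, herm_zero_left,
        hst, hts, hs's, hs't, ht's, ht't, ht's', hss', hts', hst', htt', hs't', mul_zero, add_zero, zero_add] at h1 h2 h3 h4
      intro i
      fin_cases i
      · exact (mul_eq_zero.1 h1).resolve_right hs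
      · exact (mul_eq_zero.1 h2).resolve_right ht
      · exact (mul_eq_zero.1 h3).resolve_right hs'0
      · exact (mul_eq_zero.1 h4).resolve_right ht'0
    have hsp := hli.span_eq_top_of_card_eq_finrank' (by
      rw [Fintype.card_fin, Module.finrank_fintype_fun_eq_card, Fintype.card_fin, hn])
    have hall : ∀ v : Fin n → F, hermForm n F 3 v r = 0 := by
      intro v
      have hv : v ∈ Submodule.span F (Set.range ![s, t, s', t']) := by rw [hsp]; exact Submodule.mem_top
      induction hv using Submodule.span_induction with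
      | mem x hx =>
        obtain ⟨i, rfl⟩ := hx
        fin_cases i
        · exact herm_eq_zero_swap hF r1
        · exact herm_eq_zero_swap hF r2
        · exact herm_eq_zero_swap hF r3
        · exact herm_eq_zero_swap hF r4
      | zero => exact herm_zero_left _
      | add x y _ _ hx hy => rw [herm_add_left, hx, hy, add_zero]
      | smul c x _ hx => rw [herm_smul_left, hx, mul_zero]
    exact hv (herm_eq_zero_swap hF (hall v))
  rw [ac_mul, ac_mul, ac_mul, ac_rf hF ht, ac_rf hF hs, ac_rf hF ht'0, ac_rf hF hs'0]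
  simp only [herm_sub_left, herm_smul_left, hst, hts, hs's, hs't, ht's, ht't, ht's', hss', hts', hst', htt', hs't',
    mul_zero, sub_zero]
  have h2 := two_ne_zero' hF
  obtain ⟨r, hr⟩ : ∃ r, r = x - (((hermForm n F 3 t t)⁻¹ * hermForm n F 3 x t) • t + ((hermForm n F 3 s s)⁻¹ * hermForm n F 3 x s) • s +
      ((hermForm n F 3 t' t')⁻¹ * hermForm n F 3 x t') • t' + ((hermForm n F 3 s' s')⁻¹ * hermForm n F 3 x s') • s') := ⟨_, rfl⟩
  have hr0 : r = 0 := by
    apply key
    · rw [hr]
      simp only [herm_sub_left, herm_add_left, herm_smul_left, hst, hts, hs's, hs't, ht's, ht't, ht's', hss', hts', hst',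
        htt', hs't', mul_zero, add_zero, zero_add]
      field_simp
      ring
    · rw [hr]
      simp only [herm_sub_left, herm_add_left, herm_smul_left, hst, hts, hs's, hs't, ht's, ht't, ht's', hss', hts', hst',
        htt', hs't', mul_zero, add_zero, zero_add]
      field_simp
      ring
    · rw [hr]
      simp only [herm_sub_left, herm_add_left, herm_smul_left, hst, hts, hs's, hs't, ht's, ht't, ht's', hss', hts', hst',
        htt', hs't', mul_zero, add_zero, zero_add]
      field_simp
      ring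
    · rw [hr]
      simp only [herm_sub_left, herm_add_left, herm_smul_left, hst, hts, hs's, hs't, ht's, ht't, ht's', hss', hts', hst',
        htt', hs't', mul_zero, add_zero, zero_add]
      field_simp
      ring
  have e : x - (2 * (hermForm n F 3 t t)⁻¹ * hermForm n F 3 x t) • t - (2 * (hermForm n F 3 s s)⁻¹ * hermForm n F 3 x s) • s -
      (2 * (hermForm n F 3 t' t')⁻¹ * hermForm n F 3 x t') • t' - (2 * (hermForm n F 3 s' s')⁻¹ * hermForm n F 3 x s') • s' =
      -x + (2 : F) • r := by
    rw [hr]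
    module
  rw [e, hr0, smul_zero, add_zero]

variable {D : Set (PSU n F 3)} (h : RT D)
include h

theorem false_of_four (hn : n = 4) {s t : Fin n → F} (hs : hermForm n F 3 s s ≠ 0) (ht : hermForm n F 3 t t ≠ 0)
    (hstQ : hermForm n F 3 s s = hermForm n F 3 t t)
    (hst : hermForm n F 3 s t = 0) (hD : InD D (rf hF s hs * rf hF t ht)) : False := by
  have h2 := two_ne_zero' hF
  have hts := herm_eq_zero_swap hF hst
  obtain ⟨s', hs'f, hs'⟩ := exists_perp hF (k := 2) ![s, t] (by omega) (by
    intro i j hij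
    fin_cases i <;> fin_cases j
    · exact absurd rfl hij
    · exact hst
    · exact hts
    · exact absurd rfl hij) (by
    intro i
    fin_cases i
    · exact hs
    · exact ht) (herm_self_pow hF s)
  have hs's : hermForm n F 3 s' s = 0 := hs'f 0
  have hs't : hermForm n F 3 s' t = 0 := hs'f 1
  have hss' := herm_eq_zero_swap hF hs's
  have hts' := herm_eq_zero_swap hF hs't
  have hs'0 : hermForm n F 3 s' s' ≠ 0 := by rw [hs']; exact hs
  obtain ⟨t', ht'f, ht'⟩ := exists_perp hF (k := 3) ![s, t, s'] (by omega) (by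
    intro i j hij
    fin_cases i <;> fin_cases j
    · exact absurd rfl hij
    · exact hst
    · exact hss'
    · exact hts
    · exact absurd rfl hij
    · exact hts'
    · exact hs's
    · exact hs't
    · exact absurd rfl hij) (by
    intro i
    fin_cases i
    · exact hs
    · exact ht
    · exact hs'0) (herm_self_pow hF s)
  have ht's : hermForm n F 3 t' s = 0 := ht'f 0
  have ht't : hermForm n F 3 t' t = 0 := ht'f 1
  have ht's' : hermForm n F 3 t' s' = 0 := ht'f 2
  have hst' := herm_eq_zero_swap hF ht's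
  have htt' := herm_eq_zero_swap hF ht't
  have hs't' := herm_eq_zero_swap hF ht's'
  have ht'0 : hermForm n F 3 t' t' ≠ 0 := by rw [ht']; exact hs
  have ht'Q : hermForm n F 3 t t = hermForm n F 3 t' t' := by rw [ht', hstQ]
  have hQ1 : hermForm n F 3 s s = hermForm n F 3 s' s' := hs'.symm
  -- the vectors `s ± s'`, `t - t'`
  have e1 : hermForm n F 3 (s - s') (s - s') = 2 * hermForm n F 3 s s := by
    rw [herm_sub_left, herm_sub_right hF, herm_sub_right hF, hss', hs's, hs']; ring
  have e2 : hermForm n F 3 (s + s') (s + s') = 2 * hermForm n F 3 s s := by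
    rw [herm_add_left, herm_add_right hF, herm_add_right hF, hss', hs's, hs']; ring
  have e3 : hermForm n F 3 (t - t') (t - t') = 2 * hermForm n F 3 s s := by
    rw [herm_sub_left, herm_sub_right hF, herm_sub_right hF, htt', ht't, ht', hstQ]; ring
  have n1 : hermForm n F 3 (s - s') (s - s') ≠ 0 := by rw [e1]; exact mul_ne_zero h2 hs
  have n2 : hermForm n F 3 (s + s') (s + s') ≠ 0 := by rw [e2]; exact mul_ne_zero h2 hs
  have n3 : hermForm n F 3 (t - t') (t - t') ≠ 0 := by rw [e3]; exact mul_ne_zero h2 hs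
  have hD1 := move hF h hs ht hs'0 hts' hts hs's (by rw [hs', hstQ]) hD
  rw [← rf_plane hF hs hs'0 hss' hQ1 n1 n2] at hD1
  have hJ := move hF h n1 n2 n3 (by
      rw [herm_add_left, herm_sub_right hF, herm_sub_right hF, hst, hst', hs't, hs't']; ring) (by
      rw [herm_add_left, herm_sub_right hF, herm_sub_right hF, hss', hs's, hs']; ring) (by
      rw [herm_sub_left, herm_sub_right hF, herm_sub_right hF, hts, hts', ht's, ht's']; ring) (by rw [e2, e3]) hD1
  have hts1 : hermForm n F 3 (t - t') (s - s') = 0 := by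
    rw [herm_sub_left, herm_sub_right hF, herm_sub_right hF, hts, hts', ht's, ht's']; ring
  have hst1 := herm_eq_zero_swap hF hts1
  obtain ⟨J, hJd⟩ : ∃ J, J = rf hF (s - s') n1 * rf hF (t - t') n3 := ⟨_, rfl⟩
  rw [← hJd] at hJ
  have hJJ : J * J = 1 := by
    rw [hJd]
    nth_rewrite 1 [rf_comm hF n1 n3 hts1]
    calc rf hF (t - t') n3 * rf hF (s - s') n1 * (rf hF (s - s') n1 * rf hF (t - t') n3)
        = rf hF (t - t') n3 * (rf hF (s - s') n1 * rf hF (s - s') n1) * rf hF (t - t') n3 := by group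
      _ = 1 := by rw [rf_mul_self, mul_one, rf_mul_self]
  have hJi : J⁻¹ = J := inv_eq_of_mul_eq_one_left hJJ
  have hJs : ac J s = s' := by
    rw [hJd, ac_mul, ac_rf_perp hF n3 (by rw [herm_sub_right hF, hst, hst', sub_zero]), ac_rf_sub hF hQ1 hss']
  have hJt : ac J t = t' := by
    rw [hJd, ac_mul, ac_rf_sub hF ht'Q htt', ac_rf_perp hF n1 (by rw [herm_sub_right hF, ht's, ht's', sub_zero])]
  -- `w`
  obtain ⟨w, hwd⟩ : ∃ w, w = rf hF s hs * rf hF t ht := ⟨_, rfl⟩
  rw [← hwd] at hD
  have hww : w * w = 1 := by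
    rw [hwd]
    nth_rewrite 1 [rf_comm hF hs ht hts]
    calc rf hF t ht * rf hF s hs * (rf hF s hs * rf hF t ht)
        = rf hF t ht * (rf hF s hs * rf hF s hs) * rf hF t ht := by group
      _ = 1 := by rw [rf_mul_self, mul_one, rf_mul_self]
  have hwi : w⁻¹ = w := inv_eq_of_mul_eq_one_left hww
  have hJw : J * w * J⁻¹ = rf hF s' hs'0 * rf hF t' ht'0 := by
    rw [hwd, ← conj_rf' hF J hs hs'0 hJs, ← conj_rf' hF J ht ht'0 hJt]
    group
  have hneg : ∀ x, ac (J * w * J⁻¹ * w⁻¹) x = -x := by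
    intro x
    rw [hJw, hwi, hwd]
    exact four_neg hF hn hs ht hs'0 ht'0 hst hs's hs't ht's ht't ht's' x
  have hsJ : Sc (J * w * J⁻¹ * w⁻¹) := ⟨-1, fun x => by rw [hneg, neg_smul, one_smul]⟩
  -- the transvection
  obtain ⟨ζ, hζ⟩ := exists_norm_eq hF (c := (-1 : F)) (by norm_num)
  obtain ⟨τ, hτ0, hτ⟩ := exists_trace_zero_ne hF
  obtain ⟨u, hu⟩ : ∃ u, u = s + ζ • t := ⟨_, rfl⟩
  obtain ⟨u', hu'⟩ : ∃ u', u' = s' + ζ • t' := ⟨_, rfl⟩
  have huu : hermForm n F 3 u u = 0 := by
    rw [hu, herm_add_left, herm_add_right hF, herm_add_right hF, herm_smul_left, herm_smul_left, herm_smul_right,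
      herm_smul_right, hst, hts, ← hstQ]
    linear_combination (hermForm n F 3 s s) * hζ
  have hJu : ac J u = u' := by rw [hu, hu', ac_add, ac_smul, hJs, hJt]
  have huu' : hermForm n F 3 u u' = 0 := by
    rw [hu, hu', herm_add_left, herm_add_right hF, herm_add_right hF, herm_smul_left, herm_smul_left, herm_smul_right,
      herm_smul_right, hss', hst', hts', htt']
    ring
  have hu'u' : hermForm n F 3 u' u' = 0 := by rw [← hJu, ac_herm, huu]
  obtain ⟨g, hg⟩ : ∃ g, g = tv hF u τ huu hτ := ⟨_, rfl⟩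
  have hgd : dt g = 1 := by rw [hg]; exact dt_inc _
  have hwu : ac w u = -u := by
    rw [hwd, hu, ac_mul, ac_add, ac_smul, ac_rf_self, ac_rf_perp hF ht hst, ac_add, ac_smul, ac_neg, ac_rf_self,
      ac_rf_perp hF hs hts]
    module
  have huu2 : hermForm n F 3 (-u) (-u) = 0 := by rw [herm_neg_left, herm_neg_right hF, huu]; ring
  have hgw : w * g * w⁻¹ = g := by
    rw [hg, conj_tv hF w huu huu2 hτ hwu]
    apply ac_ext
    intro x
    rw [ac_tv, ac_tv, herm_neg_right hF]
    module
  have hgw2 : w * g = g * w := by rwa [mul_inv_eq_iff_eq_mul] at hgw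
  have hJg : J * g * J⁻¹ = tv hF u' τ hu'u' hτ := by rw [hg]; exact conj_tv hF J huu hu'u' hτ hJu
  have hy := hJ.conj h hgd
  have hsy : Sc (g * J * g⁻¹ * w * (g * J * g⁻¹)⁻¹ * w⁻¹) := by
    obtain ⟨c, hc⟩ := hsJ
    refine ⟨c, fun x => ?_⟩
    have e : g * J * g⁻¹ * w * (g * J * g⁻¹)⁻¹ * w⁻¹ = g * (J * w * J⁻¹ * w⁻¹) * g⁻¹ := by
      have e1 : g⁻¹ * w = w * g⁻¹ := by
        rw [inv_mul_eq_iff_eq_mul, ← mul_assoc, ← hgw2, mul_inv_cancel_right]
      have e2 : g⁻¹ * w⁻¹ = w⁻¹ * g⁻¹ := by
        rw [← _root_.mul_inv_rev, ← _root_.mul_inv_rev, hgw2]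
      calc g * J * g⁻¹ * w * (g * J * g⁻¹)⁻¹ * w⁻¹ = g * J * (g⁻¹ * w) * g * J⁻¹ * (g⁻¹ * w⁻¹) := by group
        _ = g * (J * w * J⁻¹ * w⁻¹) * g⁻¹ := by rw [e1, e2]; group
    rw [e, ac_mul, ac_mul, hc, ac_smul, ac_ac_inv]
  have hprod : J * (g * J * g⁻¹) = tv hF u' τ hu'u' hτ * (tv hF u τ huu hτ)⁻¹ := by
    rw [← hJg, ← hg, hJi]
    group
  have hcomm : Commute (tv hF u' τ hu'u' hτ) (tv hF u τ huu hτ)⁻¹ :=
    Commute.inv_right (tv_comm hF hu'u' huu hτ hτ (herm_eq_zero_swap hF huu'))
  have h3 := three_eq_zero hF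
  have hcube : ∀ (v : Fin n → F) (hv : hermForm n F 3 v v = 0), tv hF v τ hv hτ ^ 3 = 1 := by
    intro v hv
    apply ac_ext
    intro x
    rw [tv_pow, ac_one, Nat.cast_ofNat, h3, zero_mul, zero_smul, add_zero]
  have hsc := hD.sc_of_odd hF (by omega) h hJ hy hsJ hsy (k := 3) (by decide) (by
    rw [hprod, hcomm.mul_pow, inv_pow, hcube, hcube, inv_one, mul_one])
  rw [hprod] at hsc
  obtain ⟨l, hl⟩ := hsc
  have hinv : ∀ x, ac (tv hF u τ huu hτ)⁻¹ x = x - (τ * hermForm n F 3 x u) • u := by
    intro x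
    have h5 : ac (tv hF u τ huu hτ) (x - (τ * hermForm n F 3 x u) • u) = x := by
      rw [ac_tv, herm_sub_left, herm_smul_left, huu]
      module
    nth_rewrite 1 [← h5]
    rw [ac_inv_ac]
  have hu0 : u ≠ 0 := by
    rintro h6
    have h7 : hermForm n F 3 s u = hermForm n F 3 s s := by
      rw [hu, herm_add_right hF, herm_smul_right, hst]; ring
    rw [h6, herm_zero_right hF] at h7
    exact hs h7.symm
  have hsu : hermForm n F 3 s u = hermForm n F 3 s s := by
    rw [hu, herm_add_right hF, herm_smul_right, hst]; ring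
  have hsu' : hermForm n F 3 s u' = 0 := by
    rw [hu', herm_add_right hF, herm_smul_right, hss', hst']; ring
  have h4 := hl u
  rw [ac_mul, hinv, huu, mul_zero, zero_smul, sub_zero, ac_tv, huu', mul_zero, zero_smul, add_zero] at h4
  have hl1 : l = 1 := by
    have h5 : (l - 1) • u = 0 := by
      rw [sub_smul, ← h4, one_smul, sub_self]
    exact sub_eq_zero.1 ((smul_eq_zero.1 h5).resolve_right hu0)
  have h6 := hl s
  rw [ac_mul, hinv, ac_tv, hl1, one_smul, herm_sub_left, herm_smul_left, hsu', huu', hsu, mul_zero, sub_zero, mul_zero,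
    zero_smul, add_zero] at h6
  have h7 : (τ * hermForm n F 3 s s) • u = 0 := by
    have h8 := congrArg (fun x => s - x) h6
    simp only [sub_self] at h8
    rw [← h8]
    module
  rcases smul_eq_zero.1 h7 with h8 | h8
  · exact mul_ne_zero hτ0 hs h8
  · exact hu0 h8

end four

/-- **`PSU_n(3)`, `n ≥ 4`** -/
theorem noRT_psu_three (hF : Fintype.card F = 3 ^ 2) (hn : 4 ≤ n) : NoRT (PSU n F 3) := by
  intro D h hne
  obtain ⟨s, t, hs, ht, hQ, hst, hD⟩ := stepB hF hn h hne
  by_cases h5 : 5 ≤ n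
  · exact false_of_five hF h h5 hs ht hst hD
  · exact false_of_four hF h (by omega) hs ht hQ hst hD

end Cfsg.Agent.H281.RT.Un
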