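import Cfsg.Agent.H335.RT.Lift
import Cfsg.Agent.ClassicalGeometry.UnitTransv
import Cfsg.Agent.LieClassical.SUBasic
import Cfsg.Prelude.Def_LieClassical

/-!
# Unitary groups: the action, quasi-reflections, transvections (helper281, for S3126)
-/

set_option autoImplicit false
set_option linter.unusedSectionVars false

namespace Cfsg.Agent.H281.RT.Un

open Subgroup Matrix Cfsg Cfsg.Agent.LieClassical.HermBasic Cfsg.Agent.ClassicalGeometry.UnitTransv Cfsg.Agent.H335
open scoped commutatorElement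

section basic

variable {F : Type*} [Field F] {n q : ℕ}

/-- the action of the unitary group -/
def ac (g : GU n F q) (v : Fin n → F) : Fin n → F :=
  ((g : Matrix.GeneralLinearGroup (Fin n) F) : Matrix (Fin n) (Fin n) F) *ᵥ v

theorem ac_ext {g h : GU n F q} (H : ∀ x, ac g x = ac h x) : g = h := by
  apply Subtype.ext
  apply Units.ext
  exact Matrix.ext_of_mulVec_single fun i => H _

theorem ac_mul (g h : GU n F q) (x : Fin n → F) : ac (g * h) x = ac g (ac h x) := by
  unfold ac
  rw [mulVec_mulVec]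
  rfl

theorem ac_one (x : Fin n → F) : ac (1 : GU n F q) x = x := by
  unfold ac
  rw [OneMemClass.coe_one, Units.val_one, one_mulVec]

theorem ac_add (g : GU n F q) (x y : Fin n → F) : ac g (x + y) = ac g x + ac g y := mulVec_add _ _ _

theorem ac_sub (g : GU n F q) (x y : Fin n → F) : ac g (x - y) = ac g x - ac g y := mulVec_sub _ _ _

theorem ac_neg (g : GU n F q) (x : Fin n → F) : ac g (-x) = -ac g x := mulVec_neg _ _

theorem ac_smul (g : GU n F q) (c : F) (x : Fin n → F) : ac g (c • x) = c • ac g x := mulVec_smul _ _ _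

theorem ac_zero (g : GU n F q) : ac g 0 = 0 := mulVec_zero _

theorem ac_herm (g : GU n F q) (x y : Fin n → F) : hermForm n F q (ac g x) (ac g y) = hermForm n F q x y := g.2 x y

theorem ac_inv_ac (g : GU n F q) (x : Fin n → F) : ac g⁻¹ (ac g x) = x := by
  rw [← ac_mul, inv_mul_cancel, ac_one]

theorem ac_ac_inv (g : GU n F q) (x : Fin n → F) : ac g (ac g⁻¹ x) = x := by
  rw [← ac_mul, mul_inv_cancel, ac_one]

/-- the determinant -/
def dt : GU n F q →* F where
  toFun g := ((g : Matrix.GeneralLinearGroup (Fin n) F) : Matrix (Fin n) (Fin n) F).det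
  map_one' := by simp
  map_mul' g h := by
    rw [Subgroup.coe_mul, Units.val_mul, det_mul]

/-- `SU ≤ GU` -/
def inc : SU n F q →* GU n F q where
  toFun x := ⟨Matrix.SpecialLinearGroup.toGL x.1, fun u v => x.2 u v⟩
  map_one' := Subtype.ext (map_one _)
  map_mul' x y := Subtype.ext (map_mul Matrix.SpecialLinearGroup.toGL x.1 y.1)

theorem ac_inc (x : SU n F q) (v : Fin n → F) : ac (inc x) v = act x v := rfl

theorem inc_injective : Function.Injective (inc : SU n F q →* GU n F q) := by
  intro x y h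
  apply ext_act
  intro v
  rw [← ac_inc, ← ac_inc, h]

theorem dt_inc (x : SU n F q) : dt (inc x) = 1 := x.1.2

theorem exists_inc {g : GU n F q} (h : dt g = 1) : ∃ x : SU n F q, inc x = g := by
  refine ⟨mk _ h g.2, ?_⟩
  apply ac_ext
  intro v
  rfl

end basic

section herm

variable {F : Type*} [Field F] [Fintype F] {n q : ℕ} (hF : Fintype.card F = q ^ 2)

/-- the quasi-reflection `x ↦ x + (l - 1) h(x, v) h(v, v)⁻¹ v` -/
noncomputable def ql (v : Fin n → F) (l : F) (hv : hermForm n F q v v ≠ 0) (hl : l ^ (q + 1) = 1) : GU n F q :=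
  ⟨Matrix.GeneralLinearGroup.mkOfDetNeZero (rankOne q (((l - 1) * (hermForm n F q v v)⁻¹) • v) v) (by
      rw [det_rankOne, herm_smul_left, mul_assoc, inv_mul_cancel₀ hv, mul_one, add_sub_cancel]
      rintro rfl
      rw [zero_pow (by omega)] at hl
      exact zero_ne_one hl), by
    intro x y
    change hermForm n F q (rankOne q _ v *ᵥ x) (rankOne q _ v *ᵥ y) = hermForm n F q x y
    have e1 : (((l - 1) * (hermForm n F q v v)⁻¹ * hermForm n F q y v) ^ q) =
        (l ^ q - 1) * (hermForm n F q v v)⁻¹ * hermForm n F q v y := by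
      rw [mul_pow, mul_pow, sub_pow_q hF, one_pow, inv_pow, herm_self_pow hF, ← herm_swap hF y v]
    have e2 : l * l ^ q = 1 := by rw [← pow_succ', hl]
    rw [rankOne_mulVec, rankOne_mulVec, smul_smul, smul_smul, mul_comm (hermForm n F q x v),
      mul_comm (hermForm n F q y v), herm_add_left, herm_add_right hF, herm_add_right hF, herm_smul_left,
      herm_smul_left, herm_smul_right, herm_smul_right, e1]
    have e3 : l ^ q = l⁻¹ := by
      apply eq_inv_of_mul_eq_one_right
      exact e2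
    have hl0 : l ≠ 0 := by
      rintro rfl
      rw [zero_mul] at e2
      exact zero_ne_one e2
    rw [e3]
    field_simp
    ring⟩

theorem dt_ql {v : Fin n → F} {l : F} (hv : hermForm n F q v v ≠ 0) (hl : l ^ (q + 1) = 1) : dt (ql hF v l hv hl) = l := by
  change (rankOne q (((l - 1) * (hermForm n F q v v)⁻¹) • v) v).det = l
  rw [det_rankOne, herm_smul_left, mul_assoc, inv_mul_cancel₀ hv, mul_one, add_sub_cancel]

theorem ac_ql {v : Fin n → F} {l : F} (hv : hermForm n F q v v ≠ 0) (hl : l ^ (q + 1) = 1) (x : Fin n → F) :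
    ac (ql hF v l hv hl) x = x + ((l - 1) * (hermForm n F q v v)⁻¹ * hermForm n F q x v) • v := by
  change rankOne q (((l - 1) * (hermForm n F q v v)⁻¹) • v) v *ᵥ x = _
  rw [rankOne_mulVec, smul_smul, mul_comm (hermForm n F q x v)]

include hF in
theorem herm_smul_self (c : F) (v : Fin n → F) :
    hermForm n F q (c • v) (c • v) = (c * c ^ q) * hermForm n F q v v := by
  rw [herm_smul_left, herm_smul_right, mul_assoc]

/-- conjugates -/
theorem conj_ql (g : GU n F q) {v w : Fin n → F} {l c : F} (hv : hermForm n F q v v ≠ 0) (hw : hermForm n F q w w ≠ 0)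
    (hl : l ^ (q + 1) = 1) (hc : c ≠ 0) (h : ac g v = c • w) : g * ql hF v l hv hl * g⁻¹ = ql hF w l hw hl := by
  rw [mul_inv_eq_iff_eq_mul]
  apply ac_ext
  intro x
  rw [ac_mul, ac_mul, ac_ql, ac_ql, ac_add, ac_smul, h]
  have e1 : hermForm n F q x v = c ^ q * hermForm n F q (ac g x) w := by
    rw [← ac_herm g, h, herm_smul_right]
  have e2 : hermForm n F q v v = (c * c ^ q) * hermForm n F q w w := by
    rw [← ac_herm g, h, herm_smul_self hF]
  have hcq : c ^ q ≠ 0 := pow_ne_zero _ hc
  rw [e1, e2, smul_smul]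
  congr 2
  field_simp

/-- the transvection `x ↦ x + c h(x, u) u` -/
def tv (u : Fin n → F) (c : F) (hu : hermForm n F q u u = 0) (hc : c + c ^ q = 0) : GU n F q := inc (utv hF u c hu hc)

theorem ac_tv {u : Fin n → F} {c : F} (hu : hermForm n F q u u = 0) (hc : c + c ^ q = 0) (x : Fin n → F) :
    ac (tv hF u c hu hc) x = x + (c * hermForm n F q x u) • u := act_utv hF hu hc x

theorem conj_tv (g : GU n F q) {u w : Fin n → F} {c : F} (hu : hermForm n F q u u = 0) (hw : hermForm n F q w w = 0)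
    (hc : c + c ^ q = 0) (h : ac g u = w) : g * tv hF u c hu hc * g⁻¹ = tv hF w c hw hc := by
  rw [mul_inv_eq_iff_eq_mul]
  apply ac_ext
  intro x
  rw [ac_mul, ac_mul, ac_tv, ac_tv, ac_add, ac_smul, h]
  have e1 : hermForm n F q x u = hermForm n F q (ac g x) w := by rw [← ac_herm g, h]
  rw [e1]

theorem tv_pow {u : Fin n → F} {c : F} (hu : hermForm n F q u u = 0) (hc : c + c ^ q = 0) (k : ℕ) (x : Fin n → F) :
    ac (tv hF u c hu hc ^ k) x = x + ((k : F) * (c * hermForm n F q x u)) • u := by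
  induction k with
  | zero => rw [pow_zero, ac_one]; simp
  | succ k ih =>
    rw [pow_succ', ac_mul, ih, ac_tv, herm_add_left, herm_smul_left, hu, mul_zero, add_zero]
    push_cast
    module

theorem tv_comm {u w : Fin n → F} {c d : F} (hu : hermForm n F q u u = 0) (hw : hermForm n F q w w = 0)
    (hc : c + c ^ q = 0) (hd : d + d ^ q = 0) (huw : hermForm n F q u w = 0) :
    tv hF u c hu hc * tv hF w d hw hd = tv hF w d hw hd * tv hF u c hu hc := by
  have hwu := herm_eq_zero_swap hF huw
  apply ac_ext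
  intro x
  rw [ac_mul, ac_mul, ac_tv, ac_tv, ac_tv, ac_tv, herm_add_left, herm_smul_left, hwu, herm_add_left, herm_smul_left, huw]
  module

end herm

/-! ### reflections, `q = 3` -/

section three

variable {F : Type*} [Field F] [Fintype F] {n : ℕ} (hF : Fintype.card F = 3 ^ 2)

include hF in
theorem three_eq_zero : (3 : F) = 0 := by
  have h1 : ((3 ^ 2 : ℕ) : F) = 0 := by rw [← hF]; exact FiniteField.cast_card_eq_zero F
  rw [Nat.cast_pow, Nat.cast_ofNat] at h1
  exact (pow_eq_zero_iff (two_ne_zero : (2 : ℕ) ≠ 0)).1 h1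

include hF in
theorem two_ne_zero' : (2 : F) ≠ 0 := by
  intro h
  have h3 := three_eq_zero hF
  have h1 : (1 : F) = 0 := by linear_combination h3 - h
  exact one_ne_zero h1

/-- reflections -/
noncomputable def rf (v : Fin n → F) (hv : hermForm n F 3 v v ≠ 0) : GU n F 3 := ql hF v (-1) hv (by norm_num)

theorem dt_rf {v : Fin n → F} (hv : hermForm n F 3 v v ≠ 0) : dt (rf hF v hv) = -1 := dt_ql hF hv _

theorem ac_rf {v : Fin n → F} (hv : hermForm n F 3 v v ≠ 0) (x : Fin n → F) :
    ac (rf hF v hv) x = x - (2 * (hermForm n F 3 v v)⁻¹ * hermForm n F 3 x v) • v := by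
  rw [rf, ac_ql]
  module

theorem ac_rf_perp {v x : Fin n → F} (hv : hermForm n F 3 v v ≠ 0) (h : hermForm n F 3 x v = 0) :
    ac (rf hF v hv) x = x := by
  rw [ac_rf, h, mul_zero, zero_smul, sub_zero]

theorem ac_rf_self {v : Fin n → F} (hv : hermForm n F 3 v v ≠ 0) : ac (rf hF v hv) v = -v := by
  rw [ac_rf, mul_assoc, inv_mul_cancel₀ hv, mul_one]
  module

/-- exchange of two orthogonal vectors of the same norm -/
theorem ac_rf_sub {u v : Fin n → F} (huv : hermForm n F 3 u u = hermForm n F 3 v v) (h0 : hermForm n F 3 u v = 0)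
    (h : hermForm n F 3 (u - v) (u - v) ≠ 0) : ac (rf hF (u - v) h) u = v := by
  have hvu := herm_eq_zero_swap hF h0
  have e1 : hermForm n F 3 (u - v) (u - v) = 2 * hermForm n F 3 u u := by
    rw [herm_sub_left, herm_sub_right hF, herm_sub_right hF, h0, hvu, ← huv]
    ring
  have e2 : hermForm n F 3 u (u - v) = hermForm n F 3 u u := by
    rw [herm_sub_right hF, h0, sub_zero]
  have hu : hermForm n F 3 u u ≠ 0 := by
    intro h3
    rw [e1, h3, mul_zero] at h
    exact h rfl
  have h2 := two_ne_zero' hF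
  rw [ac_rf, e1, e2]
  have e3 : 2 * (2 * hermForm n F 3 u u)⁻¹ * hermForm n F 3 u u = 1 := by field_simp
  rw [e3, one_smul]
  abel

theorem conj_rf (g : GU n F 3) {v w : Fin n → F} {c : F} (hv : hermForm n F 3 v v ≠ 0) (hw : hermForm n F 3 w w ≠ 0)
    (hc : c ≠ 0) (h : ac g v = c • w) : g * rf hF v hv * g⁻¹ = rf hF w hw := conj_ql hF g hv hw _ hc h

theorem conj_rf' (g : GU n F 3) {v w : Fin n → F} (hv : hermForm n F 3 v v ≠ 0) (hw : hermForm n F 3 w w ≠ 0)
    (h : ac g v = w) : g * rf hF v hv * g⁻¹ = rf hF w hw :=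
  conj_rf hF g hv hw one_ne_zero (by rw [one_smul]; exact h)

theorem conj_rf_neg (g : GU n F 3) {v w : Fin n → F} (hv : hermForm n F 3 v v ≠ 0) (hw : hermForm n F 3 w w ≠ 0)
    (h : ac g v = -w) : g * rf hF v hv * g⁻¹ = rf hF w hw :=
  conj_rf hF g hv hw (neg_ne_zero.2 one_ne_zero) (by rw [neg_smul, one_smul]; exact h)

theorem rf_mul_self {v : Fin n → F} (hv : hermForm n F 3 v v ≠ 0) : rf hF v hv * rf hF v hv = 1 := by
  apply ac_ext
  intro x
  rw [ac_mul, ac_one, ac_rf hF hv x, ac_sub, ac_smul, ac_rf_self, ac_rf]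
  module

theorem rf_inv {v : Fin n → F} (hv : hermForm n F 3 v v ≠ 0) : (rf hF v hv)⁻¹ = rf hF v hv :=
  inv_eq_of_mul_eq_one_left (rf_mul_self hF hv)

theorem rf_comm {v w : Fin n → F} (hv : hermForm n F 3 v v ≠ 0) (hw : hermForm n F 3 w w ≠ 0)
    (h : hermForm n F 3 w v = 0) : rf hF v hv * rf hF w hw = rf hF w hw * rf hF v hv := by
  have h1 := conj_rf' hF (rf hF v hv) hw hw (ac_rf_perp hF hv h)
  rwa [mul_inv_eq_iff_eq_mul] at h1

/-- two products of reflections for the same plane -/
theorem rf_plane {a b : Fin n → F} (ha : hermForm n F 3 a a ≠ 0) (hb : hermForm n F 3 b b ≠ 0)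
    (hab : hermForm n F 3 a b = 0) (he : hermForm n F 3 a a = hermForm n F 3 b b)
    (h1 : hermForm n F 3 (a - b) (a - b) ≠ 0) (h2 : hermForm n F 3 (a + b) (a + b) ≠ 0) :
    rf hF (a - b) h1 * rf hF (a + b) h2 = rf hF a ha * rf hF b hb := by
  have hba := herm_eq_zero_swap hF hab
  have e1 : hermForm n F 3 (a - b) (a - b) = 2 * hermForm n F 3 a a := by
    rw [herm_sub_left, herm_sub_right hF, herm_sub_right hF, hab, hba, ← he]
    ring
  have e2 : hermForm n F 3 (a + b) (a + b) = 2 * hermForm n F 3 a a := by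
    rw [herm_add_left, herm_add_right hF, herm_add_right hF, hab, hba, ← he]
    ring
  have h20 := two_ne_zero' hF
  apply ac_ext
  intro x
  rw [ac_mul, ac_mul, ac_rf hF h2, ac_rf hF h1, ac_rf hF hb, ac_rf hF ha, e1, e2, ← he]
  have e3 : hermForm n F 3 (x - (2 * (2 * hermForm n F 3 a a)⁻¹ * hermForm n F 3 x (a + b)) • (a + b)) (a - b) =
      hermForm n F 3 x a - hermForm n F 3 x b := by
    rw [herm_sub_left, herm_smul_left, herm_sub_right hF, herm_sub_right hF, herm_add_left, herm_add_left, hab, hba,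
      ← he]
    ring
  have e4 : hermForm n F 3 (x - (2 * (hermForm n F 3 a a)⁻¹ * hermForm n F 3 x b) • b) a = hermForm n F 3 x a := by
    rw [herm_sub_left, herm_smul_left, hba]
    ring
  rw [e3, e4, herm_add_right hF]
  have e5 : 2 * (2 * hermForm n F 3 a a)⁻¹ = (hermForm n F 3 a a)⁻¹ := by field_simp
  rw [e5]
  module

end three

end Cfsg.Agent.H281.RT.Un
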